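import Groth.Agent.Etalg.Milnor
import Mathlib.RingTheory.Spectrum.Prime.Topology
import Mathlib.RingTheory.Spectrum.Prime.RingHom
import Mathlib.RingTheory.Ideal.Over
import Mathlib.Topology.Category.TopCat.Limits.Basic
import Mathlib.CategoryTheory.Limits.Shapes.Pullback.IsPullback.Basic

/-!
# The spectrum of a Milnor square is a pushout of topological spaces
-/

set_option autoImplicit false
set_option linter.unusedSectionVars false
universe u

namespace K361.SpecPushout

open CategoryTheory Groth.Agent.Etalg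

variable {B' B A' A : Type u} [CommRing B'] [CommRing B] [CommRing A'] [CommRing A]
    [Algebra B' B] [Algebra B' A'] [Algebra B A] [Algebra A' A] [Algebra B' A]
    [IsScalarTower B' B A] [IsScalarTower B' A' A]

local notation "inl" => PrimeSpectrum.comap (algebraMap B' B)
local notation "inr" => PrimeSpectrum.comap (algebraMap B' A')
local notation "fA" => PrimeSpectrum.comap (algebraMap B A)
local notation "gA" => PrimeSpectrum.comap (algebraMap A' A)

theorem comm (r : PrimeSpectrum A) : inl (fA r) = inr (gA r) := by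
  ext x
  simp only [PrimeSpectrum.comap_asIdeal, Ideal.mem_comap]
  rw [Milnor.compat (A' := A')]

theorem inl_injective (hsq : EtMil.IsFibreSquare B' B A' A) : Function.Injective inl :=
  PrimeSpectrum.comap_injective_of_surjective _ (Milnor.surjective_B hsq)

/-- a point of `Spec B'` in the closed piece -/
theorem mem_range_inl_iff (hsq : EtMil.IsFibreSquare B' B A' A) (p : PrimeSpectrum B') :
    p ∈ Set.range inl ↔ ∀ j : B', algebraMap B' B j = 0 → j ∈ p.asIdeal := by
  rw [range_comap_of_surjective _ _ (Milnor.surjective_B hsq)]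
  exact ⟨fun h j hj => h hj, fun h j hj => h j hj⟩

theorem mem_range_gA_iff (hsq : EtMil.IsFibreSquare B' B A' A) (p : PrimeSpectrum A') :
    p ∈ Set.range gA ↔ ∀ j : A', algebraMap A' A j = 0 → j ∈ p.asIdeal := by
  rw [range_comap_of_surjective _ _ hsq.1]
  exact ⟨fun h j hj => h hj, fun h j hj => h j hj⟩

theorem exists_of_inr_mem (hsq : EtMil.IsFibreSquare B' B A' A) (q : PrimeSpectrum A')
    (h : inr q ∈ Set.range inl) : ∃ r, gA r = q := by
  rw [mem_range_inl_iff hsq] at h
  change q ∈ Set.range gA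
  rw [mem_range_gA_iff hsq]
  intro i hi
  obtain ⟨j, hj1, hj2⟩ := Milnor.exists_ker hsq i hi
  have := h j hj1
  rwa [PrimeSpectrum.comap_asIdeal, Ideal.mem_comap, hj2] at this

/-- an element of the kernel outside of a prime not in the closed piece -/
theorem exists_not_mem (hsq : EtMil.IsFibreSquare B' B A' A) (q : PrimeSpectrum A')
    (h : inr q ∉ Set.range inl) : ∃ i : A', algebraMap A' A i = 0 ∧ i ∉ q.asIdeal := by
  rw [mem_range_inl_iff hsq] at h
  push Not at h
  obtain ⟨j, hj1, hj2⟩ := h
  refine ⟨algebraMap B' A' j, ?_, hj2⟩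
  rw [← Milnor.compat (B := B) (A' := A'), hj1, map_zero]

theorem le_of_inr_eq (hsq : EtMil.IsFibreSquare B' B A' A) (q q' : PrimeSpectrum A')
    (h : inr q ∉ Set.range inl) (hq : inr q' = inr q) : q'.asIdeal ≤ q.asIdeal := by
  intro x hx
  obtain ⟨i, hi, hiq⟩ := exists_not_mem hsq q h
  obtain ⟨b, hb1, hb2⟩ := Milnor.exists_ker hsq (i * x) (by rw [map_mul, hi, zero_mul])
  have h1 : b ∈ (inr q').asIdeal := by
    rw [PrimeSpectrum.comap_asIdeal, Ideal.mem_comap, hb2]
    exact Ideal.mul_mem_left _ _ hx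
  rw [hq, PrimeSpectrum.comap_asIdeal, Ideal.mem_comap, hb2] at h1
  exact (q.isPrime.mem_or_mem h1).resolve_left hiq

theorem eq_of_inr_eq (hsq : EtMil.IsFibreSquare B' B A' A) (q q' : PrimeSpectrum A')
    (h : inr q ∉ Set.range inl) (hq : inr q' = inr q) : q' = q :=
  PrimeSpectrum.ext (le_antisymm (le_of_inr_eq hsq q q' h hq)
    (le_of_inr_eq hsq q' q (by rw [hq]; exact h) hq.symm))

/-- every prime is in one of the two pieces -/
theorem exists_inr (hsq : EtMil.IsFibreSquare B' B A' A) (p : PrimeSpectrum B')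
    (h : p ∉ Set.range inl) : ∃ q, inr q = p := by
  rw [mem_range_inl_iff hsq] at h
  push Not at h
  obtain ⟨j, hj1, hj2⟩ := h
  have hi : algebraMap A' A (algebraMap B' A' j) = 0 := by
    rw [← Milnor.compat (B := B) (A' := A'), hj1, map_zero]
  have hex : ∀ x : A', ∃ b : B', algebraMap B' B b = 0 ∧
      algebraMap B' A' b = algebraMap B' A' j * x := fun x =>
    Milnor.exists_ker hsq _ (by rw [map_mul, hi, zero_mul])
  choose σ hσ1 hσ2 using hex
  have hprod : ∀ x y, σ x * σ y = j * σ (x * y) := fun x y => by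
    apply Milnor.ext_of hsq
    · rw [map_mul, map_mul, hσ1, hj1, zero_mul, zero_mul]
    · rw [map_mul, map_mul, hσ2, hσ2, hσ2]; ring
  have hone : σ 1 = j := by
    apply Milnor.ext_of hsq
    · rw [hσ1, hj1]
    · rw [hσ2, mul_one]
  have hadd : ∀ x y, σ (x + y) = σ x + σ y := fun x y => by
    apply Milnor.ext_of hsq
    · rw [map_add, hσ1, hσ1, hσ1, add_zero]
    · rw [map_add, hσ2, hσ2, hσ2]; ring
  have hzero : σ 0 = 0 := by
    apply Milnor.ext_of hsq
    · rw [hσ1, map_zero]
    · rw [hσ2, mul_zero, map_zero]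
  let q : Ideal A' :=
    { carrier := {x | σ x ∈ p.asIdeal}
      add_mem' := fun {x y} hx hy => by
        change σ (x + y) ∈ p.asIdeal
        rw [hadd]; exact Ideal.add_mem _ hx hy
      zero_mem' := by
        change σ 0 ∈ p.asIdeal
        rw [hzero]; exact Ideal.zero_mem _
      smul_mem' := fun a x hx => by
        change σ (a * x) ∈ p.asIdeal
        refine (p.isPrime.mem_or_mem (?_ : j * σ (a * x) ∈ p.asIdeal)).resolve_left hj2
        rw [← hprod]
        exact Ideal.mul_mem_left _ _ hx }
  have hq : q.IsPrime := by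
    refine ⟨fun h => hj2 ?_, fun {x y} hxy => ?_⟩
    · have : (1 : A') ∈ q := by rw [h]; trivial
      rw [← hone]; exact this
    · have : σ (x * y) ∈ p.asIdeal := hxy
      refine p.isPrime.mem_or_mem (?_ : σ x * σ y ∈ p.asIdeal)
      rw [hprod]
      exact Ideal.mul_mem_left _ _ this
  refine ⟨⟨q, hq⟩, ?_⟩
  ext b
  rw [PrimeSpectrum.comap_asIdeal, Ideal.mem_comap]
  change σ (algebraMap B' A' b) ∈ p.asIdeal ↔ _
  have h1 : σ (algebraMap B' A' b) = j * b := by
    apply Milnor.ext_of hsq
    · rw [hσ1, map_mul, hj1, zero_mul]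
    · rw [hσ2, map_mul]
  rw [h1]
  exact ⟨fun h => (p.isPrime.mem_or_mem h).resolve_left hj2, fun h => Ideal.mul_mem_left _ _ h⟩

theorem isClosed_of_preimage (hsq : EtMil.IsFibreSquare B' B A' A) (Z : Set (PrimeSpectrum B'))
    (h1 : IsClosed (inl ⁻¹' Z)) (h2 : IsClosed (inr ⁻¹' Z)) : IsClosed Z := by
  set J₁ := PrimeSpectrum.vanishingIdeal (inl ⁻¹' Z) with hJ₁
  set J₂ := PrimeSpectrum.vanishingIdeal (inr ⁻¹' Z) with hJ₂
  have hz1 : PrimeSpectrum.zeroLocus (J₁ : Set B) = inl ⁻¹' Z := by
    rw [hJ₁, PrimeSpectrum.zeroLocus_vanishingIdeal_eq_closure, h1.closure_eq]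
  have hz2 : PrimeSpectrum.zeroLocus (J₂ : Set A') = inr ⁻¹' Z := by
    rw [hJ₂, PrimeSpectrum.zeroLocus_vanishingIdeal_eq_closure, h2.closure_eq]
  set J := J₁.comap (algebraMap B' B) ⊓ J₂.comap (algebraMap B' A') with hJ
  have key : Z = PrimeSpectrum.zeroLocus (J : Set B') := by
    apply Set.Subset.antisymm
    · intro p hp b hb
      by_cases h : p ∈ Set.range inl
      · obtain ⟨p₁, rfl⟩ := h
        have : p₁ ∈ PrimeSpectrum.zeroLocus (J₁ : Set B) := by rw [hz1]; exact hp
        exact this hb.1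
      · obtain ⟨q, rfl⟩ := exists_inr (A := A) (A' := A') hsq p h
        have : q ∈ PrimeSpectrum.zeroLocus (J₂ : Set A') := by rw [hz2]; exact hp
        exact this hb.2
    · intro p hp
      by_cases h : p ∈ Set.range inl
      · obtain ⟨p₁, rfl⟩ := h
        change p₁ ∈ inl ⁻¹' Z
        rw [← hz1]
        intro b hb
        have hr : algebraMap B A b ∈ (J₂.map (algebraMap A' A)).radical := by
          rw [Ideal.radical_eq_sInf, Ideal.mem_sInf]
          rintro r ⟨hr, hrp⟩
          have h3 : gA ⟨r, hrp⟩ ∈ PrimeSpectrum.zeroLocus (J₂ : Set A') := fun x hx =>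
            hr (Ideal.mem_map_of_mem _ hx)
          rw [hz2] at h3
          have h4 : fA ⟨r, hrp⟩ ∈ inl ⁻¹' Z := by
            change inl (fA ⟨r, hrp⟩) ∈ Z
            rw [comm (B' := B') (A' := A')]; exact h3
          rw [← hz1] at h4
          exact h4 hb
        obtain ⟨n, hn⟩ := hr
        have hn := Ideal.mul_mem_right (algebraMap B A b) _ hn
        rw [← pow_succ, ← map_pow, Ideal.mem_map_iff_of_surjective _ hsq.1] at hn
        obtain ⟨a, ha, hab⟩ := hn
        obtain ⟨b', hb1, hb2⟩ := Milnor.exists_mem hsq _ _ hab.symm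
        have : b' ∈ (inl p₁).asIdeal := hp ⟨by
          change algebraMap B' B b' ∈ J₁
          rw [hb1]; exact Ideal.pow_mem_of_mem _ hb _ (Nat.succ_pos n), by
          change algebraMap B' A' b' ∈ J₂
          rw [hb2]; exact ha⟩
        rw [PrimeSpectrum.comap_asIdeal, Ideal.mem_comap, hb1] at this
        exact p₁.isPrime.mem_of_pow_mem _ this
      · obtain ⟨q, rfl⟩ := exists_inr (A := A) (A' := A') hsq p h
        change q ∈ inr ⁻¹' Z
        rw [← hz2]
        intro x hx
        obtain ⟨i, hi, hiq⟩ := exists_not_mem hsq q h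
        obtain ⟨b, hb1, hb2⟩ := Milnor.exists_ker hsq (i * x) (by rw [map_mul, hi, zero_mul])
        have h3 : b ∈ (inr q).asIdeal := hp ⟨by
          change algebraMap B' B b ∈ J₁
          rw [hb1]; exact Ideal.zero_mem _, by
          change algebraMap B' A' b ∈ J₂
          rw [hb2]; exact Ideal.mul_mem_left _ _ hx⟩
        rw [PrimeSpectrum.comap_asIdeal, Ideal.mem_comap, hb2] at h3
        exact (q.isPrime.mem_or_mem h3).resolve_left hiq
  rw [key]
  exact PrimeSpectrum.isClosed_zeroLocus _

open Classical in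
/-- the induced map out of `Spec B'` -/
noncomputable def desc {X : Type u} (a : PrimeSpectrum B → X) (b : PrimeSpectrum A' → X)
    (hsq : EtMil.IsFibreSquare B' B A' A) (p : PrimeSpectrum B') : X :=
  if h : p ∈ Set.range inl then a h.choose
  else b (exists_inr (A := A) (A' := A') hsq p h).choose

theorem desc_inl {X : Type u} (a : PrimeSpectrum B → X) (b : PrimeSpectrum A' → X)
    (hsq : EtMil.IsFibreSquare B' B A' A) (p : PrimeSpectrum B) :
    desc a b hsq (inl p) = a p := by
  have h : inl p ∈ Set.range inl := ⟨p, rfl⟩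
  rw [desc, dif_pos h]
  congr 1
  exact inl_injective hsq h.choose_spec

theorem desc_inr {X : Type u} (a : PrimeSpectrum B → X) (b : PrimeSpectrum A' → X)
    (hsq : EtMil.IsFibreSquare B' B A' A) (hab : ∀ r, a (fA r) = b (gA r))
    (q : PrimeSpectrum A') : desc a b hsq (inr q) = b q := by
  by_cases h : inr q ∈ Set.range inl
  · obtain ⟨r, rfl⟩ := exists_of_inr_mem hsq q h
    rw [← comm (B' := B') (B := B), desc_inl, hab]
  · rw [desc, dif_neg h]
    congr 1
    exact eq_of_inr_eq hsq _ _ h (exists_inr (A := A) (A' := A') hsq _ h).choose_spec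

theorem continuous_desc {X : Type u} [TopologicalSpace X] (a : PrimeSpectrum B → X)
    (b : PrimeSpectrum A' → X) (ha : Continuous a) (hb : Continuous b)
    (hsq : EtMil.IsFibreSquare B' B A' A) (hab : ∀ r, a (fA r) = b (gA r)) :
    Continuous (desc a b hsq) := by
  rw [continuous_iff_isClosed]
  intro Z hZ
  apply isClosed_of_preimage hsq
  · rw [← Set.preimage_comp, show desc a b hsq ∘ inl = a from funext (desc_inl a b hsq)]
    exact hZ.preimage ha
  · rw [← Set.preimage_comp, show desc a b hsq ∘ inr = b from funext (desc_inr a b hsq hab)]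
    exact hZ.preimage hb

theorem isPushout (hsq : EtMil.IsFibreSquare B' B A' A) :
    IsPushout (TopCat.ofHom (ContinuousMap.mk fA (PrimeSpectrum.continuous_comap _)))
      (TopCat.ofHom (ContinuousMap.mk gA (PrimeSpectrum.continuous_comap _)))
      (TopCat.ofHom (ContinuousMap.mk inl (PrimeSpectrum.continuous_comap _)))
      (TopCat.ofHom (ContinuousMap.mk inr (PrimeSpectrum.continuous_comap _))) := by
  have w : TopCat.ofHom (ContinuousMap.mk fA (PrimeSpectrum.continuous_comap _)) ≫
      TopCat.ofHom (ContinuousMap.mk inl (PrimeSpectrum.continuous_comap _)) =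
      TopCat.ofHom (ContinuousMap.mk gA (PrimeSpectrum.continuous_comap _)) ≫
      TopCat.ofHom (ContinuousMap.mk inr (PrimeSpectrum.continuous_comap _)) := by
    exact TopCat.hom_ext (ContinuousMap.ext fun r => comm (B' := B') (B := B) (A' := A') r)
  refine ⟨⟨w⟩, ⟨?_⟩⟩
  have hab : ∀ s : Limits.PushoutCocone
      (TopCat.ofHom (ContinuousMap.mk (fA) (PrimeSpectrum.continuous_comap (algebraMap B A))))
      (TopCat.ofHom (ContinuousMap.mk (gA) (PrimeSpectrum.continuous_comap (algebraMap A' A)))),
      ∀ r, s.inl.hom (fA r) = s.inr.hom (gA r) := fun s r =>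
    congrArg (fun g => g.hom r) s.condition
  refine Limits.PushoutCocone.IsColimit.mk w
    (fun s => TopCat.ofHom ⟨desc s.inl.hom s.inr.hom hsq,
      continuous_desc _ _ s.inl.hom.continuous s.inr.hom.continuous hsq (hab s)⟩) ?_ ?_ ?_
  · intro s
    ext p
    exact desc_inl _ _ hsq p
  · intro s
    ext q
    exact desc_inr _ _ hsq (hab s) q
  · intro s m h1 h2
    ext p
    by_cases h : p ∈ Set.range inl
    · obtain ⟨p, rfl⟩ := h
      exact (congrArg (fun g => g.hom p) h1).trans (desc_inl s.inl.hom s.inr.hom hsq p).symm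
    · obtain ⟨q, rfl⟩ := exists_inr (A := A) (A' := A') hsq p h
      exact (congrArg (fun g => g.hom q) h2).trans
        (desc_inr s.inl.hom s.inr.hom hsq (hab s) q).symm

end K361.SpecPushout
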