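import Groth.Agent.EtAlg.K361.RelMilnor2
import Groth.Agent.EtAlg.K361.SpecPushout
import Mathlib.RingTheory.TensorProduct.MvPolynomial
import Mathlib.RingTheory.FinitePresentation
import Mathlib.RingTheory.Smooth.Fiber
import Mathlib.RingTheory.Etale.Descent

/-!
# Milnor squares: properties of algebras
-/

set_option autoImplicit false
set_option linter.unusedSectionVars false
universe u

namespace K361.RelMilnor3

open TensorProduct Groth.Agent.Etalg

section FT

theorem exists_finset_adjoin (R S T : Type u) [CommRing R] [CommRing S] [CommRing T] [Algebra R S]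
    [Algebra R T] [Algebra.FiniteType T (T ⊗[R] S)] :
    ∃ s : Finset S, Algebra.adjoin T ((fun x : S => (1 : T) ⊗ₜ[R] x) '' (s : Set S)) = ⊤ := by
  classical
  obtain ⟨s, hs⟩ := Algebra.FiniteType.out (R := T) (A := T ⊗[R] S)
  have (x : s) := TensorProduct.exists_sum_tmul_eq x.1
  choose k t m h using this
  refine ⟨Finset.univ.biUnion fun x : s => Finset.univ.image (m x), ?_⟩
  rw [_root_.eq_top_iff, ← hs, Algebra.adjoin_le_iff]
  intro x hx
  have hx' := h ⟨x, hx⟩
  simp only at hx'
  rw [hx']
  refine Subalgebra.sum_mem _ fun j _ => ?_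
  have h1 : (t ⟨x, hx⟩ j) ⊗ₜ[R] (m ⟨x, hx⟩ j) = (t ⟨x, hx⟩ j) • ((1 : T) ⊗ₜ[R] (m ⟨x, hx⟩ j)) := by
    rw [TensorProduct.smul_tmul', smul_eq_mul, mul_one]
  rw [h1]
  refine Subalgebra.smul_mem _ (Algebra.subset_adjoin (Set.mem_image_of_mem _ ?_)) _
  rw [Finset.mem_coe, Finset.mem_biUnion]
  exact ⟨⟨x, hx⟩, Finset.mem_univ _, Finset.mem_image_of_mem _ (Finset.mem_univ _)⟩

theorem subsingleton_quotient (R S T : Type u) [CommRing R] [CommRing S] [CommRing T] [Algebra R S]
    [Algebra R T] (s : Set S) (E : Subalgebra R S) (hsE : s ⊆ E)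
    (hs : Algebra.adjoin T ((fun x : S => (1 : T) ⊗ₜ[R] x) '' s) = ⊤) :
    Subsingleton (T ⊗[R] (S ⧸ Subalgebra.toSubmodule E)) := by
  have h1 : (Algebra.TensorProduct.map (AlgHom.id T T) E.val).range = ⊤ := by
    rw [_root_.eq_top_iff, ← hs, Algebra.adjoin_le_iff]
    rintro _ ⟨x, hx, rfl⟩
    exact ⟨(1 : T) ⊗ₜ[R] (⟨x, hsE hx⟩ : E), by simp⟩
  have h2 : Function.Surjective (Algebra.TensorProduct.map (AlgHom.id T T) E.val) := by
    rw [← AlgHom.range_eq_top]; exact h1
  have h3 : ∀ x : T ⊗[R] E, (Subalgebra.toSubmodule E).mkQ.lTensor T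
      (Algebra.TensorProduct.map (AlgHom.id T T) E.val x) = 0 := by
    intro x
    induction x using TensorProduct.induction_on with
    | zero => simp
    | add x y hx hy => rw [map_add, map_add, hx, hy, add_zero]
    | tmul a b =>
      have : (Submodule.Quotient.mk (b : S) : S ⧸ Subalgebra.toSubmodule E) = 0 := by
        rw [Submodule.Quotient.mk_eq_zero]; exact b.2
      rw [Algebra.TensorProduct.map_tmul, LinearMap.lTensor_tmul, Submodule.mkQ_apply]
      change _ ⊗ₜ[R] (Submodule.Quotient.mk (b : S) : S ⧸ Subalgebra.toSubmodule E) = 0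
      rw [this, tmul_zero]
  have h4 : ∀ z : T ⊗[R] (S ⧸ Subalgebra.toSubmodule E), z = 0 := by
    intro z
    obtain ⟨y, rfl⟩ := LinearMap.lTensor_surjective T (Submodule.mkQ_surjective
      (Subalgebra.toSubmodule E)) z
    obtain ⟨x, rfl⟩ := h2 y
    exact h3 x
  exact ⟨fun x y => by rw [h4 x, h4 y]⟩

end FT

section Pair

variable {B' B A' A : Type u} [CommRing B'] [CommRing B] [CommRing A'] [CommRing A]
    [Algebra B' B] [Algebra B' A'] [Algebra B A] [Algebra A' A] [Algebra B' A]
    [IsScalarTower B' B A] [IsScalarTower B' A' A]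
    (hsq : EtMil.IsFibreSquare B' B A' A)
    (D' D C' : Type u) [CommRing D'] [CommRing D] [CommRing C']
    [Algebra B' D'] [Algebra B D] [Algebra A' C']
    [Algebra D' D] [Algebra B' D] [IsScalarTower B' B D] [IsScalarTower B' D' D]
    [Algebra.IsPushout B' B D' D]
    [Algebra D' C'] [Algebra B' C'] [IsScalarTower B' A' C'] [IsScalarTower B' D' C']
    [Algebra.IsPushout B' A' D' C']

include hsq in
theorem finiteType_of_pair [h1 : Algebra.FiniteType B D] [h2 : Algebra.FiniteType A' C'] :
    Algebra.FiniteType B' D' := by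
  classical
  have h1' : Algebra.FiniteType B (B ⊗[B'] D') :=
    Algebra.FiniteType.equiv h1 (Algebra.IsPushout.equiv B' B D' D).symm
  have h2' : Algebra.FiniteType A' (A' ⊗[B'] D') :=
    Algebra.FiniteType.equiv h2 (Algebra.IsPushout.equiv B' A' D' C').symm
  obtain ⟨s1, hs1⟩ := exists_finset_adjoin B' D' B
  obtain ⟨s2, hs2⟩ := exists_finset_adjoin B' D' A'
  let E : Subalgebra B' D' := Algebra.adjoin B' ((s1 ∪ s2 : Finset D') : Set D')
  have e1 : Subsingleton (B ⊗[B'] (D' ⧸ Subalgebra.toSubmodule E)) :=
    subsingleton_quotient B' D' B (s1 : Set D') E (fun x hx => Algebra.subset_adjoin (by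
      rw [Finset.coe_union]; exact Or.inl hx)) hs1
  have e2 : Subsingleton (A' ⊗[B'] (D' ⧸ Subalgebra.toSubmodule E)) :=
    subsingleton_quotient B' D' A' (s2 : Set D') E (fun x hx => Algebra.subset_adjoin (by
      rw [Finset.coe_union]; exact Or.inr hx)) hs2
  have h3 := K364.MilnorPair.subsingleton_of_pair hsq _ e1 e2
  have h4 : Subalgebra.toSubmodule E = ⊤ := Submodule.Quotient.subsingleton_iff.mp h3
  refine ⟨⟨s1 ∪ s2, ?_⟩⟩
  change E = ⊤
  rw [← Algebra.toSubmodule_eq_top]
  exact h4

include hsq in
theorem flat_of_pair [h1 : Module.Flat B D] [h2 : Module.Flat A' C'] : Module.Flat B' D' := by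
  have h1' : Module.Flat B (B ⊗[B'] D') :=
    Module.Flat.of_linearEquiv (Algebra.IsPushout.equiv B' B D' D).toLinearEquiv
  have h2' : Module.Flat A' (A' ⊗[B'] D') :=
    Module.Flat.of_linearEquiv (Algebra.IsPushout.equiv B' A' D' C').toLinearEquiv
  exact K364.MilnorPair.flat_of_pair D' hsq

theorem surjective_of_isPushout {P PB D' D : Type u} [CommRing P] [CommRing PB] [CommRing D']
    [CommRing D] [Algebra P PB] [Algebra P D'] [Algebra P D] [Algebra PB D] [Algebra D' D]
    [IsScalarTower P PB D] [IsScalarTower P D' D] [Algebra.IsPushout P PB D' D]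
    (h : Function.Surjective (algebraMap P D')) : Function.Surjective (algebraMap PB D) := by
  intro c
  have hC : IsBaseChange PB (IsScalarTower.toAlgHom P D' D).toLinearMap :=
    Algebra.IsPushout.out
  obtain ⟨t, rfl⟩ := hC.equiv.surjective c
  induction t using TensorProduct.induction_on with
  | zero => exact ⟨0, by simp⟩
  | tmul a d =>
    obtain ⟨p, rfl⟩ := h d
    refine ⟨a * algebraMap P PB p, ?_⟩
    rw [IsBaseChange.equiv_tmul, map_mul, Algebra.smul_def]
    change _ = _ * algebraMap D' D (algebraMap P D' p)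
    rw [← IsScalarTower.algebraMap_apply P PB D, ← IsScalarTower.algebraMap_apply P D' D]
  | add x y hx hy =>
    obtain ⟨x', hx'⟩ := hx
    obtain ⟨y', hy'⟩ := hy
    exact ⟨x' + y', by rw [map_add, map_add, hx', hy']⟩

attribute [local instance] MvPolynomial.algebraMvPolynomial

/-- module finite presentation of the pushout along a surjection from a polynomial ring -/
theorem module_fp (B' B D' D : Type u) [CommRing B'] [CommRing B] [CommRing D'] [CommRing D]
    [Algebra B' B] [Algebra B' D'] [Algebra B D] [Algebra D' D] [Algebra B' D]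
    [IsScalarTower B' B D] [IsScalarTower B' D' D] [Algebra.IsPushout B' B D' D]
    [Algebra.FinitePresentation B D] [Module.Flat B' D']
    (n : ℕ) [Algebra (MvPolynomial (Fin n) B') D'] [IsScalarTower B' (MvPolynomial (Fin n) B') D']
    (h : Function.Surjective (algebraMap (MvPolynomial (Fin n) B') D')) :
    Module.Finite (MvPolynomial (Fin n) B) (MvPolynomial (Fin n) B ⊗[MvPolynomial (Fin n) B']
      (LinearMap.ker (Algebra.linearMap (MvPolynomial (Fin n) B') D'))) := by
  let P := MvPolynomial (Fin n) B'
  let PB := MvPolynomial (Fin n) B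
  let fB : PB →ₐ[B] D := MvPolynomial.aeval fun i =>
    algebraMap D' D (algebraMap P D' (MvPolynomial.X i))
  let _ : Algebra PB D := fB.toRingHom.toAlgebra
  let _ : Algebra P D := ((algebraMap D' D).comp (algebraMap P D')).toAlgebra
  have t1 : IsScalarTower P D' D := IsScalarTower.of_algebraMap_eq fun _ => rfl
  have t2 : IsScalarTower B PB D := IsScalarTower.of_algebraMap_eq fun x => (fB.commutes x).symm
  have t3 : IsScalarTower B' P D := IsScalarTower.of_algebraMap_eq fun x => by
    change _ = algebraMap D' D (algebraMap P D' (algebraMap B' P x))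
    rw [← IsScalarTower.algebraMap_apply B' P D', ← IsScalarTower.algebraMap_apply B' D' D]
  have t4 : IsScalarTower B' PB D := IsScalarTower.of_algebraMap_eq fun x => by
    rw [IsScalarTower.algebraMap_apply B' B PB, ← IsScalarTower.algebraMap_apply B PB D,
      ← IsScalarTower.algebraMap_apply B' B D]
  have t5 : IsScalarTower P PB D := IsScalarTower.of_algebraMap_eq' (by
    refine MvPolynomial.ringHom_ext (fun r => ?_) (fun i => ?_)
    · change algebraMap D' D (algebraMap P D' (algebraMap B' P r)) = fB (algebraMap P PB (algebraMap B' P r))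
      rw [← IsScalarTower.algebraMap_apply B' P D', ← IsScalarTower.algebraMap_apply B' D' D,
        ← IsScalarTower.algebraMap_apply B' P PB, IsScalarTower.algebraMap_apply B' B PB,
        fB.commutes, ← IsScalarTower.algebraMap_apply B' B D]
    · change algebraMap D' D (algebraMap P D' (MvPolynomial.X i)) =
        fB (algebraMap P PB (MvPolynomial.X i))
      rw [MvPolynomial.algebraMap_def, MvPolynomial.map_X, MvPolynomial.aeval_X])
  have hp0 : Algebra.IsPushout B' D' B D := .symm inferInstance
  have hp1 : Algebra.IsPushout P D' PB D := by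
    rw [← Algebra.IsPushout.comp_iff B' P B (S' := PB) (T := D') (T' := D)]
    exact hp0
  have hp2 : Algebra.IsPushout P PB D' D := hp1.symm
  have hs : Function.Surjective (algebraMap PB D) := surjective_of_isPushout (P := P) h
  have hk : (RingHom.ker fB.toRingHom).FG :=
    Algebra.FinitePresentation.ker_fG_of_surjective fB hs
  have h1 : Module.FinitePresentation PB D :=
    Module.finitePresentation_of_surjective (Algebra.linearMap PB D) hs hk
  have h2 : Module.FinitePresentation PB (PB ⊗[P] D') :=
    Module.FinitePresentation.of_equiv (Algebra.IsPushout.equiv P PB D' D).symm.toLinearEquiv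
  exact RelMilnor2.finite_tensor_ker B' B P PB (Algebra.linearMap P D') h

include hsq in
theorem finitePresentation_of_pair [Algebra.FinitePresentation B D] [Module.Flat B D]
    [Algebra.FinitePresentation A' C'] [Module.Flat A' C'] :
    Algebra.FinitePresentation B' D' := by
  have hflat : Module.Flat B' D' := flat_of_pair hsq D' D C'
  have hft : Algebra.FiniteType B' D' := finiteType_of_pair hsq D' D C'
  obtain ⟨n, f, hf⟩ := Algebra.FiniteType.iff_quotient_mvPolynomial''.1 hft
  let _ : Algebra (MvPolynomial (Fin n) B') D' := f.toRingHom.toAlgebra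
  have t1 : IsScalarTower B' (MvPolynomial (Fin n) B') D' :=
    IsScalarTower.of_algebraMap_eq fun x => (f.commutes x).symm
  have h1 := module_fp B' B D' D n hf
  have h2 := module_fp B' A' D' C' n hf
  have h3 := RelMilnor2.finite_of_rel_pair (B' := B') (B := B) (A' := A') (A := A) hsq
    (MvPolynomial (Fin n) B') (MvPolynomial (Fin n) B) (MvPolynomial (Fin n) A')
    (LinearMap.ker (Algebra.linearMap (MvPolynomial (Fin n) B') D'))
  exact Algebra.FinitePresentation.of_surjective hf (Module.Finite.iff_fg.1 h3)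

/-- smoothness of a fibre from smoothness of a base change -/
theorem smooth_fiber (R S D' D : Type u) [CommRing R] [CommRing S] [CommRing D'] [CommRing D]
    [Algebra R S] [Algebra R D'] [Algebra S D] [Algebra D' D] [Algebra R D]
    [IsScalarTower R S D] [IsScalarTower R D' D] [Algebra.IsPushout R S D' D] [Algebra.Smooth S D]
    (I : Ideal R) [I.IsPrime] (q : Ideal S) [q.IsPrime] [q.LiesOver I] :
    Algebra.Smooth I.ResidueField (I.ResidueField ⊗[R] D') := by
  let _ : Algebra I.ResidueField q.ResidueField :=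
    (Ideal.ResidueField.map I q (algebraMap R S) (q.over_def I)).toAlgebra
  have : IsScalarTower R I.ResidueField q.ResidueField :=
    IsScalarTower.of_algebraMap_eq fun x => by
      rw [IsScalarTower.algebraMap_apply R S q.ResidueField]
      exact (Ideal.ResidueField.map_algebraMap I q (algebraMap R S) (q.over_def I) x).symm
  let e1 : q.ResidueField ⊗[I.ResidueField] (I.ResidueField ⊗[R] D') ≃ₐ[q.ResidueField]
      q.ResidueField ⊗[R] D' := Algebra.TensorProduct.cancelBaseChange R I.ResidueField
        q.ResidueField q.ResidueField D'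
  let e2 : q.ResidueField ⊗[S] (S ⊗[R] D') ≃ₐ[q.ResidueField]
      q.ResidueField ⊗[R] D' := Algebra.TensorProduct.cancelBaseChange R S
        q.ResidueField q.ResidueField D'
  let e3 : q.ResidueField ⊗[S] (S ⊗[R] D') ≃ₐ[q.ResidueField] q.ResidueField ⊗[S] D :=
    Algebra.TensorProduct.congr AlgEquiv.refl (Algebra.IsPushout.equiv R S D' D)
  have h1 : Algebra.Smooth q.ResidueField (q.ResidueField ⊗[S] D) := inferInstance
  have h2 : Algebra.Smooth q.ResidueField
      (q.ResidueField ⊗[I.ResidueField] (I.ResidueField ⊗[R] D')) :=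
    Algebra.Smooth.of_equiv (e3.symm.trans (e2.trans e1.symm))
  exact Algebra.Smooth.of_smooth_tensorProduct_of_faithfullyFlat q.ResidueField

include hsq in
theorem smooth_of_pair [Algebra.Smooth B D] [Algebra.Smooth A' C'] : Algebra.Smooth B' D' := by
  have hflat : Module.Flat B' D' := flat_of_pair hsq D' D C'
  have hfp : Algebra.FinitePresentation B' D' := finitePresentation_of_pair hsq D' D C'
  refine Algebra.Smooth.of_formallySmooth_fiber fun I hI => ?_
  by_cases h : (⟨I, hI⟩ : PrimeSpectrum B') ∈ Set.range (PrimeSpectrum.comap (algebraMap B' B))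
  · obtain ⟨p, hp⟩ := h
    have : p.asIdeal.LiesOver I := ⟨(congrArg PrimeSpectrum.asIdeal hp).symm⟩
    exact (smooth_fiber B' B D' D I p.asIdeal).formallySmooth
  · obtain ⟨p, hp⟩ := SpecPushout.exists_inr (A := A) (A' := A') hsq _ h
    have : p.asIdeal.LiesOver I := ⟨(congrArg PrimeSpectrum.asIdeal hp).symm⟩
    exact (smooth_fiber B' A' D' C' I p.asIdeal).formallySmooth

include hsq in
theorem etale_of_pair [Algebra.Etale B D] [Algebra.Etale A' C'] : Algebra.Etale B' D' := by
  have hflat : Module.Flat B' D' := flat_of_pair hsq D' D C'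
  have hfp : Algebra.FinitePresentation B' D' := finitePresentation_of_pair hsq D' D C'
  have h1 : Subsingleton (D ⊗[D'] Ω[D'⁄B']) :=
    (KaehlerDifferential.tensorKaehlerEquiv B' B D' D).injective.subsingleton
  have h2 : Subsingleton (C' ⊗[D'] Ω[D'⁄B']) :=
    (KaehlerDifferential.tensorKaehlerEquiv B' A' D' C').injective.subsingleton
  have h1' : Subsingleton (B ⊗[B'] Ω[D'⁄B']) := RelMilnor2.subsingleton_tensor B' B D' D _
  have h2' : Subsingleton (A' ⊗[B'] Ω[D'⁄B']) := RelMilnor2.subsingleton_tensor B' A' D' C' _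
  have h3 : Subsingleton Ω[D'⁄B'] := K364.MilnorPair.subsingleton_of_pair hsq _ h1' h2'
  have h4 : Algebra.FormallyUnramified B' D' := ⟨h3⟩
  exact Algebra.Etale.of_formallyUnramified_of_flat

end Pair

end K361.RelMilnor3
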