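import Groth.Agent.Etalg.Milnor
import Mathlib.RingTheory.IsTensorProduct

/-!
# Two compatible Milnor squares are a pushout
-/

set_option autoImplicit false
set_option linter.unusedSectionVars false
universe u

namespace K361.RelMilnor4

open TensorProduct Groth.Agent.Etalg

variable {B' B A' A : Type u} [CommRing B'] [CommRing B] [CommRing A'] [CommRing A]
    [Algebra B' B] [Algebra B' A'] [Algebra B A] [Algebra A' A] [Algebra B' A]
    [IsScalarTower B' B A] [IsScalarTower B' A' A]
    (hsq : EtMil.IsFibreSquare B' B A' A)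
    (D' D C' C : Type u) [CommRing D'] [CommRing D] [CommRing C'] [CommRing C]
    [Algebra D' D] [Algebra D' C'] [Algebra D C] [Algebra C' C] [Algebra D' C]
    [IsScalarTower D' D C] [IsScalarTower D' C' C]
    (hsq' : EtMil.IsFibreSquare D' D C' C)
    [Algebra B' D'] [Algebra B D] [Algebra A' C'] [Algebra A C]
    [Algebra B' D] [IsScalarTower B' B D] [IsScalarTower B' D' D]
    [Algebra B' C'] [IsScalarTower B' A' C'] [IsScalarTower B' D' C']
    [Algebra B C] [IsScalarTower B A C] [IsScalarTower B D C]
    [Algebra A' C] [IsScalarTower A' A C] [IsScalarTower A' C' C]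
    [Algebra.IsPushout B A D C] [Algebra.IsPushout A' A C' C]

/-- the glueing isomorphism of the algebras -/
noncomputable def phi : A ⊗[B] D ≃ₗ[A] A ⊗[A'] C' :=
  (Algebra.IsPushout.equiv B A D C).toLinearEquiv ≪≫ₗ
    (Algebra.IsPushout.equiv A' A C' C).symm.toLinearEquiv

theorem phi_iff (d : D) (c : C') :
    phi (B := B) (A' := A') (A := A) D C' C (1 ⊗ₜ d) = 1 ⊗ₜ c ↔
      algebraMap D C d = algebraMap C' C c := by
  rw [phi, LinearEquiv.trans_apply]
  have h1 : (Algebra.IsPushout.equiv B A D C).toLinearEquiv ((1 : A) ⊗ₜ[B] d) =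
      algebraMap D C d := by
    change (Algebra.IsPushout.equiv B A D C) ((1 : A) ⊗ₜ[B] d) = _
    rw [Algebra.IsPushout.equiv_tmul, map_one, one_mul]
  have h2 : (Algebra.IsPushout.equiv A' A C' C).symm.toLinearEquiv (algebraMap C' C c) =
      ((1 : A) ⊗ₜ[A'] c) := by
    change (Algebra.IsPushout.equiv A' A C' C).symm (algebraMap C' C c) = _
    rw [Algebra.IsPushout.equiv_symm_algebraMap_right]
  rw [h1, ← h2, (Algebra.IsPushout.equiv A' A C' C).symm.toLinearEquiv.injective.eq_iff]

/-- `D'` is the glued module -/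
noncomputable def glueMap : D' →ₗ[B'] ↥(EtMil.glue B' (phi (B := B) (A' := A') (A := A) D C' C)) where
  toFun x := ⟨(algebraMap D' D x, algebraMap D' C' x), (phi_iff D C' C _ _).2 (by
    rw [← IsScalarTower.algebraMap_apply, ← IsScalarTower.algebraMap_apply])⟩
  map_add' x y := by
    apply Subtype.ext
    change (_, _) = (_ + _, _ + _)
    rw [map_add, map_add]
  map_smul' r x := by
    apply Subtype.ext
    change (_, _) = (r • _, r • _)
    rw [Algebra.smul_def, map_mul, map_mul, ← IsScalarTower.algebraMap_apply B' D' D,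
      ← IsScalarTower.algebraMap_apply B' D' C', Algebra.smul_def, Algebra.smul_def]

include hsq' in
theorem glueMap_bijective : Function.Bijective
    (glueMap (B' := B') (B := B) (A' := A') (A := A) D' D C' C) := by
  constructor
  · intro x y hxy
    have h := congrArg Subtype.val hxy
    exact Milnor.ext_of hsq' (congrArg Prod.fst h) (congrArg Prod.snd h)
  · rintro ⟨⟨d, c⟩, h⟩
    obtain ⟨x, h1, h2⟩ := Milnor.exists_mem hsq' d c ((phi_iff D C' C _ _).1 h)
    exact ⟨x, Subtype.ext (Prod.ext h1 h2)⟩

include hsq hsq' in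
theorem isPushout : Algebra.IsPushout B' B D' D ∧ Algebra.IsPushout B' A' D' C' := by
  let g := LinearEquiv.ofBijective _
    (glueMap_bijective (B' := B') (B := B) (A' := A') (A := A) D' D C' C hsq')
  constructor
  · refine ⟨?_⟩
    refine IsBaseChange.of_equiv ((TensorProduct.AlgebraTensorModule.congr
      (LinearEquiv.refl B B) g) ≪≫ₗ LinearEquiv.ofBijective _
      (Milnor.baseChange_fst_bijective hsq (phi (B := B) (A' := A') (A := A) D C' C))) fun x => ?_
    simp only [LinearEquiv.trans_apply, LinearEquiv.ofBijective_apply]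
    change LinearMap.liftBaseChange B _ ((1 : B) ⊗ₜ[B'] g x) = _
    rw [LinearMap.liftBaseChange_tmul, one_smul]
    rfl
  · refine ⟨?_⟩
    refine IsBaseChange.of_equiv ((TensorProduct.AlgebraTensorModule.congr
      (LinearEquiv.refl A' A') g) ≪≫ₗ LinearEquiv.ofBijective _
      (Milnor.baseChange_snd_bijective hsq (phi (B := B) (A' := A') (A := A) D C' C))) fun x => ?_
    simp only [LinearEquiv.trans_apply, LinearEquiv.ofBijective_apply]
    change LinearMap.liftBaseChange A' _ ((1 : A') ⊗ₜ[B'] g x) = _
    rw [LinearMap.liftBaseChange_tmul, one_smul]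
    rfl

end K361.RelMilnor4
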