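import Mathlib.RingTheory.Flat.Localization
import Mathlib.RingTheory.Ideal.Pure
import Mathlib.RingTheory.KrullDimension.Zero
import Mathlib.RingTheory.LocalProperties.Reduced
import Mathlib.RingTheory.Localization.AtPrime.Basic

/-!
# Absolutely flat rings
-/

set_option autoImplicit false
universe u

namespace K361.AbsFlat

open TensorProduct

variable {A : Type u} [CommRing A]

theorem isReduced_of_regular (h : ∀ a : A, ∃ b, a = a * a * b) : IsReduced A := by
  refine ⟨fun x hx => ?_⟩
  have key : ∀ x : A, x * x = 0 → x = 0 := fun x hx => by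
    obtain ⟨b, hb⟩ := h x
    rw [hb, hx, zero_mul]
  obtain ⟨n, hn⟩ := hx
  by_contra hne
  have hex : ∃ n, x ^ n = 0 := ⟨n, hn⟩
  classical
  have h1 := Nat.find_spec hex
  have h2 : Nat.find hex ≠ 0 := fun h0 => by
    rw [h0, pow_zero] at h1
    exact hne (by rw [← mul_one x, h1, mul_zero])
  have h3 : Nat.find hex ≠ 1 := fun h0 => by
    rw [h0, pow_one] at h1
    exact hne h1
  have h4 : x ^ (Nat.find hex - 1) = 0 := by
    apply key
    rw [← pow_add]
    have : Nat.find hex - 1 + (Nat.find hex - 1) = Nat.find hex + (Nat.find hex - 2) := by omega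
    rw [this, pow_add, h1, zero_mul]
  exact Nat.find_min hex (by omega) h4

theorem isMaximal_of_regular (h : ∀ a : A, ∃ b, a = a * a * b) (p : Ideal A) (hp : p.IsPrime) :
    p.IsMaximal := by
  rw [Ideal.isMaximal_iff]
  refine ⟨(Ideal.ne_top_iff_one _).1 hp.ne_top, fun J x hJ hx hxJ => ?_⟩
  obtain ⟨b, hb⟩ := h x
  have h1 : x * (1 - x * b) ∈ p := by
    have : x * (1 - x * b) = 0 := by
      rw [mul_sub, mul_one, ← mul_assoc, ← hb, sub_self]
    rw [this]; exact p.zero_mem
  have h2 := (hp.mem_or_mem h1).resolve_left hx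
  have h3 : (1 - x * b) + x * b ∈ J := J.add_mem (hJ h2) (J.mul_mem_right _ hxJ)
  simpa using h3

theorem regular_of_flat (h : ∀ (M : Type u) [AddCommGroup M] [Module A M], Module.Flat A M)
    (a : A) : ∃ b, a = a * a * b := by
  have : (Ideal.span {a}).Pure := h _
  obtain ⟨y, hy, hay⟩ := Ideal.exists_eq_mul_of_pure (Ideal.mem_span_singleton_self a)
  obtain ⟨b, rfl⟩ := Ideal.mem_span_singleton'.1 hy
  exact ⟨b, by rw [mul_assoc, mul_comm a b]; exact hay⟩

theorem isField_atPrime (hr : IsReduced A) (hm : ∀ p : Ideal A, p.IsPrime → p.IsMaximal)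
    (p : Ideal A) [p.IsPrime] : IsField (Localization.AtPrime p) := by
  have : Ring.KrullDimLE 0 A := Ring.krullDimLE_zero_iff.2 fun I hI => hm I hI
  have hk : Ring.KrullDimLE 0 (Localization.AtPrime p) := by
    rw [Ring.krullDimLE_zero_iff]
    intro I hI
    have h1 : I.under A ≤ p := by
      have := IsLocalRing.le_maximalIdeal hI.ne_top
      have h2 : I.under A ≤ (IsLocalRing.maximalIdeal (Localization.AtPrime p)).under A :=
        Ideal.comap_mono (f := algebraMap A (Localization.AtPrime p)) this
      rwa [Localization.AtPrime.under_maximalIdeal] at h2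
    have h2 : I.under A = p :=
      (hm _ (Ideal.comap_isPrime _ _)).eq_of_le (Ideal.IsPrime.ne_top ‹_›) h1
    have h3 : I = IsLocalRing.maximalIdeal (Localization.AtPrime p) := by
      rw [← IsLocalization.map_under p.primeCompl (Localization.AtPrime p) I, h2]
      exact Localization.AtPrime.map_eq_maximalIdeal
    rw [h3]
    infer_instance
  exact Ring.KrullDimLE.isField_of_isReduced

theorem flat_of_isField (h : ∀ (p : Ideal A) [p.IsPrime], IsField (Localization.AtPrime p))
    (M : Type u) [AddCommGroup M] [Module A M] : Module.Flat A M := by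
  refine Module.flat_of_localized_maximal _ fun p hp => ?_
  have := h p
  let _ : Field (Localization.AtPrime p) := this.toField
  have h1 : Module.Flat (Localization.AtPrime p) (LocalizedModule p.primeCompl M) := inferInstance
  exact (Module.flat_iff_of_isLocalization (Localization.AtPrime p) p.primeCompl _).1 h1

theorem flat_of_regular (h : ∀ a : A, ∃ b, a = a * a * b)
    (M : Type u) [AddCommGroup M] [Module A M] : Module.Flat A M :=
  flat_of_isField (fun p _ => isField_atPrime (isReduced_of_regular h)
    (isMaximal_of_regular h) p) M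

theorem flat_of_pi_field (ι : Type u) (K : ι → Type u) [∀ i, Field (K i)] (M : Type u)
    [AddCommGroup M] [Module (∀ i, K i) M] : Module.Flat (∀ i, K i) M := by
  refine flat_of_regular (fun a => ⟨fun i => (a i)⁻¹, ?_⟩) M
  ext i
  simp only [Pi.mul_apply]
  by_cases h : a i = 0
  · simp [h]
  · field_simp

end K361.AbsFlat
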