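import Groth.Agent.EtAlg.K361.FlatMul
import Groth.Agent.EtAlg.K361.AbsFlat
import Mathlib.RingTheory.Localization.AtPrime.Basic
import Mathlib.RingTheory.Nilpotent.Lemmas

/-!
# Weakly étale algebras over reduced rings are reduced
-/

set_option autoImplicit false
universe u

namespace K361.ReducedWE

open TensorProduct

/-- a reduced ring embeds in a product of fields -/
theorem exists_pi_field (A : Type u) [CommRing A] [IsReduced A] :
    Function.Injective (algebraMap A (∀ p : PrimeSpectrum A, FractionRing (A ⧸ p.asIdeal))) := by
  rw [injective_iff_map_eq_zero]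
  intro a ha
  have h1 : a ∈ nilradical A := by
    rw [nilradical_eq_sInf, Ideal.mem_sInf]
    intro p hp
    have h2 := congrFun ha ⟨p, hp⟩
    rw [Pi.algebraMap_apply, Pi.zero_apply, IsScalarTower.algebraMap_apply A (A ⧸ p)] at h2
    have h3 := (FaithfulSMul.algebraMap_injective (A ⧸ p) (FractionRing (A ⧸ p)))
      (h2.trans (map_zero _).symm)
    exact Ideal.Quotient.eq_zero_iff_mem.1 h3
  rw [nilradical_eq_zero] at h1
  exact h1

/-- absolute flatness ascends along weakly étale maps -/
theorem flat_of_weaklyEtale (K C : Type u) [CommRing K] [CommRing C] [Algebra K C]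
    [Algebra.WeaklyEtale K C]
    (hK : ∀ (M : Type u) [AddCommGroup M] [Module K M], Module.Flat K M)
    (M : Type u) [AddCommGroup M] [Module C M] : Module.Flat C M := by
  let _ : Module K M := Module.compHom M (algebraMap K C)
  have : IsScalarTower K C M := ⟨fun a b p => by
    change (a • b) • p = algebraMap K C a • (b • p)
    rw [Algebra.smul_def, mul_smul]⟩
  have := hK M
  exact FlatMul.flat_of_flat (A := K) (Algebra.WeaklyEtale.flat_lmul' K C)

theorem isReduced_aux (A B K : Type u) [CommRing A] [CommRing B] [Algebra A B]
    [CommRing K] [Algebra A K] (hinj : Function.Injective (algebraMap A K))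
    (hK : ∀ (M : Type u) [AddCommGroup M] [Module K M], Module.Flat K M)
    [Algebra.WeaklyEtale A B] : IsReduced B := by
  have : Algebra.WeaklyEtale K (K ⊗[A] B) := inferInstance
  have hred : IsReduced (K ⊗[A] B) :=
    AbsFlat.isReduced_of_regular (AbsFlat.regular_of_flat (flat_of_weaklyEtale K _ hK))
  have hinj : Function.Injective (Algebra.TensorProduct.includeRight : B →ₐ[A] K ⊗[A] B) :=
    Algebra.TensorProduct.includeRight_injective hinj
  exact isReduced_of_injective (Algebra.TensorProduct.includeRight : B →ₐ[A] K ⊗[A] B) hinj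

theorem isReduced (A B : Type u) [CommRing A] [CommRing B] [Algebra A B] [IsReduced A]
    [Algebra.WeaklyEtale A B] : IsReduced B :=
  isReduced_aux A B (∀ p : PrimeSpectrum A, FractionRing (A ⧸ p.asIdeal)) (exists_pi_field A)
    (fun M _ _ => AbsFlat.flat_of_pi_field _ _ M)

end K361.ReducedWE
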