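import Mathlib.RingTheory.FiniteType

/-!
# Finite products of algebras of finite type
-/

set_option autoImplicit false
universe u

namespace K361.FinTypePi

theorem finiteType_pi {R : Type*} [CommRing R] {ι : Type*} [Finite ι] (A : ι → Type*)
    [∀ i, CommRing (A i)] [∀ i, Algebra R (A i)] (hA : ∀ i, Algebra.FiniteType R (A i)) :
    Algebra.FiniteType R (∀ i, A i) := by
  classical
  cases nonempty_fintype ι
  choose s hs using fun i => (hA i).out
  let T : Finset (∀ i, A i) := Finset.univ.biUnion fun i =>
    insert (Pi.single i 1) ((s i).image (Pi.single i))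
  have h1 : ∀ i, (Pi.single i 1 : ∀ i, A i) ∈ Algebra.adjoin R (T : Set (∀ i, A i)) := fun i =>
    Algebra.subset_adjoin (Finset.mem_coe.2 (Finset.mem_biUnion.2
      ⟨i, Finset.mem_univ _, Finset.mem_insert_self _ _⟩))
  have h2 : ∀ i (a : A i), (Pi.single i a : ∀ i, A i) ∈ Algebra.adjoin R (T : Set (∀ i, A i)) := by
    intro i a
    have ha : a ∈ Algebra.adjoin R ((s i : Finset (A i)) : Set (A i)) := by rw [hs]; trivial
    induction ha using Algebra.adjoin_induction with
    | mem x hx =>
      exact Algebra.subset_adjoin (Finset.mem_coe.2 (Finset.mem_biUnion.2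
        ⟨i, Finset.mem_univ _, Finset.mem_insert_of_mem (Finset.mem_image_of_mem _ hx)⟩))
    | algebraMap r =>
      have : (Pi.single i (algebraMap R (A i) r) : ∀ i, A i) = r • Pi.single i 1 := by
        rw [← Pi.single_smul, Algebra.algebraMap_eq_smul_one]
      rw [this]
      exact Subalgebra.smul_mem _ (h1 i) r
    | add x y _ _ hx hy =>
      rw [Pi.single_add]; exact Subalgebra.add_mem _ hx hy
    | mul x y _ _ hx hy =>
      rw [Pi.single_mul]; exact Subalgebra.mul_mem _ hx hy
  refine ⟨⟨T, ?_⟩⟩
  rw [eq_top_iff]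
  intro x _
  rw [← Finset.univ_sum_single x]
  exact Subalgebra.sum_mem _ fun i _ => h2 i _

end K361.FinTypePi
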