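import Mathlib.RingTheory.Etale.Weakly
import Mathlib.RingTheory.Ideal.Pure
import Mathlib.LinearAlgebra.TensorProduct.Quotient
import Mathlib.RingTheory.TensorProduct.Maps
import Mathlib.LinearAlgebra.TensorProduct.RightExactness
import Mathlib.Algebra.Algebra.Epi

/-!
# If `B ⊗[A] B → B` is flat, modules flat over `A` are flat over `B`
-/

set_option autoImplicit false
universe u

namespace K361.FlatMul

open TensorProduct

section Act

variable {A B : Type u} [CommRing A] [CommRing B] [Algebra A B]
variable (M N : Type u) [AddCommGroup M] [Module A M] [Module B M] [IsScalarTower A B M]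
  [AddCommGroup N] [Module A N] [Module B N] [IsScalarTower A B N]

variable (A B) in
/-- The action of `B ⊗[A] B` on `M ⊗[A] N`. -/
noncomputable def act : B ⊗[A] B →ₐ[A] Module.End A (M ⊗[A] N) :=
  (Module.endTensorEndAlgHom (R := A) (A := A) (M := M) (N := N)).comp
    (Algebra.TensorProduct.map (Algebra.lsmul A A M) (Algebra.lsmul A A N))

theorem act_tmul (b c : B) (m : M) (n : N) :
    act A B M N (b ⊗ₜ c) (m ⊗ₜ n) = (b • m) ⊗ₜ (c • n) := by
  rfl

theorem act_smul (b : B) (t : M ⊗[A] N) : act A B M N (b ⊗ₜ 1) t = b • t := by
  induction t using TensorProduct.induction_on with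
  | zero => simp
  | tmul m n => rw [act_tmul, one_smul, TensorProduct.smul_tmul']
  | add x y hx hy => rw [map_add, hx, hy, smul_add]

theorem act_comm (x y : B ⊗[A] B) (t : M ⊗[A] N) :
    act A B M N x (act A B M N y t) = act A B M N y (act A B M N x t) := by
  rw [← Module.End.mul_apply, ← Module.End.mul_apply, ← map_mul, ← map_mul, mul_comm]

theorem proj_act (x : B ⊗[A] B) (t : M ⊗[A] N) :
    mapOfCompatibleSMul B A B M N (act A B M N x t) =
      Algebra.TensorProduct.lmul' A x • mapOfCompatibleSMul B A B M N t := by
  induction x using TensorProduct.induction_on with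
  | zero => simp
  | tmul b c =>
    induction t using TensorProduct.induction_on with
    | zero => simp
    | tmul m n =>
      rw [act_tmul, mapOfCompatibleSMul_tmul, mapOfCompatibleSMul_tmul,
        Algebra.TensorProduct.lmul'_apply_tmul, ← TensorProduct.smul_tmul, smul_smul,
        TensorProduct.smul_tmul', mul_comm]
    | add x y hx hy => rw [map_add, map_add, hx, hy, map_add, smul_add]
  | add x y hx hy => rw [map_add, LinearMap.add_apply, map_add, hx, hy, map_add, add_smul]

/-- naturality -/
theorem rTensor_act {M' : Type u} [AddCommGroup M'] [Module A M'] [Module B M']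
    [IsScalarTower A B M'] (f : M →ₗ[B] M') (x : B ⊗[A] B) (t : M ⊗[A] N) :
    (f.restrictScalars A).rTensor N (act A B M N x t) =
      act A B M' N x ((f.restrictScalars A).rTensor N t) := by
  induction x using TensorProduct.induction_on with
  | zero => simp
  | tmul b c =>
    induction t using TensorProduct.induction_on with
    | zero => simp
    | tmul m n =>
      rw [act_tmul, LinearMap.rTensor_tmul, LinearMap.rTensor_tmul, act_tmul]
      simp
    | add x y hx hy => rw [map_add, map_add, hx, hy, map_add, map_add]
  | add x y hx hy => rw [map_add, LinearMap.add_apply, map_add, hx, hy, map_add,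
      LinearMap.add_apply]

end Act

section Ker

variable {A B : Type u} [CommRing A] [CommRing B] [Algebra A B]
variable {M N : Type u} [AddCommGroup M] [Module A M] [Module B M] [IsScalarTower A B M]
  [AddCommGroup N] [Module A N] [Module B N] [IsScalarTower A B N]

theorem pure_ker (h : (Algebra.TensorProduct.lmul' A (S := B)).Flat) :
    (RingHom.ker (Algebra.TensorProduct.lmul' A (S := B))).Pure := by
  algebraize [(Algebra.TensorProduct.lmul' A (S := B)).toRingHom]
  have : Module.Flat (B ⊗[A] B) B := h
  let e : ((B ⊗[A] B) ⧸ RingHom.ker (Algebra.TensorProduct.lmul' A (S := B))) ≃ₗ[B ⊗[A] B] B :=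
    (Submodule.quotEquivOfEq _ _ (by ext x; rfl)).trans
      (LinearMap.quotKerEquivOfSurjective (Algebra.linearMap (B ⊗[A] B) B)
        (fun b => ⟨b ⊗ₜ 1, by
          change Algebra.TensorProduct.lmul' A (b ⊗ₜ[A] (1 : B)) = b
          simp⟩))
  exact Module.Flat.of_linearEquiv e

/-- an element of the kernel of `M ⊗[A] N → M ⊗[B] N` is fixed by an element of the kernel
of `B ⊗[A] B → B` -/
theorem exists_act_eq (h : (Algebra.TensorProduct.lmul' A (S := B)).Flat) (t : M ⊗[A] N)
    (ht : mapOfCompatibleSMul B A B M N t = 0) :
    ∃ e : B ⊗[A] B, Algebra.TensorProduct.lmul' A e = 0 ∧ act A B M N e t = t := by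
  have hp := pure_ker h
  have ht' : t ∈ (mapOfCompatibleSMul B A B M N).ker := ht
  rw [TensorProduct.AlgebraTensorModule.ker_mapOfCompatibleSMul] at ht'
  induction ht' using Submodule.span_induction with
  | mem x hx =>
    obtain ⟨b, m, n, rfl⟩ := hx
    have hx : (b ⊗ₜ[A] (1 : B) - (1 : B) ⊗ₜ[A] b) ∈
        RingHom.ker (Algebra.TensorProduct.lmul' A (S := B)) := by
      rw [RingHom.mem_ker, map_sub]; simp
    obtain ⟨y, hy, hxy⟩ := Ideal.exists_eq_mul_of_pure hx
    refine ⟨y, hy, ?_⟩
    have h1 : (b • m) ⊗ₜ[A] n - m ⊗ₜ[A] (b • n) =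
        act A B M N (b ⊗ₜ[A] (1 : B) - (1 : B) ⊗ₜ[A] b) (m ⊗ₜ n) := by
      rw [map_sub, LinearMap.sub_apply, act_tmul, act_tmul, one_smul, one_smul]
    rw [h1, act_comm, ← Module.End.mul_apply, ← map_mul, ← hxy]
  | zero => exact ⟨0, by simp, by simp⟩
  | add x y hx hy hx' hy' =>
    obtain ⟨e, he, hex⟩ := hx' (by
      have : x ∈ (mapOfCompatibleSMul B A B M N).ker := by
        rw [TensorProduct.AlgebraTensorModule.ker_mapOfCompatibleSMul]; exact hx
      exact this)
    obtain ⟨f, hf, hfy⟩ := hy' (by
      have : y ∈ (mapOfCompatibleSMul B A B M N).ker := by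
        rw [TensorProduct.AlgebraTensorModule.ker_mapOfCompatibleSMul]; exact hy
      exact this)
    refine ⟨e + f - e * f, by simp [he, hf], ?_⟩
    have h1 : act A B M N (e + f - e * f) x = x := by
      rw [map_sub, map_add, map_mul, LinearMap.sub_apply, LinearMap.add_apply,
        Module.End.mul_apply, act_comm, hex]
      abel
    have h2 : act A B M N (e + f - e * f) y = y := by
      rw [map_sub, map_add, map_mul, LinearMap.sub_apply, LinearMap.add_apply,
        Module.End.mul_apply, hfy]
      abel
    rw [map_add, h1, h2]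
  | smul b x hx hx' =>
    obtain ⟨e, he, hex⟩ := hx' (by
      have : x ∈ (mapOfCompatibleSMul B A B M N).ker := by
        rw [TensorProduct.AlgebraTensorModule.ker_mapOfCompatibleSMul]; exact hx
      exact this)
    exact ⟨e, he, by rw [← act_smul, act_comm, hex]⟩

/-- If `B ⊗[A] B → B` is flat, then a `B`-module that is flat over `A` is flat over `B`. -/
theorem flat_of_flat (h : (Algebra.TensorProduct.lmul' A (S := B)).Flat) [Module.Flat A N] :
    Module.Flat B N := by
  rw [Module.Flat.iff_rTensor_preserves_injective_linearMap'.{u}]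
  intro P Q _ _ _ _ f hf
  let _ : Module A P := Module.compHom P (algebraMap A B)
  let _ : Module A Q := Module.compHom Q (algebraMap A B)
  have : IsScalarTower A B P := ⟨fun a b p => by
    change (a • b) • p = algebraMap A B a • (b • p)
    rw [Algebra.smul_def, mul_smul]⟩
  have : IsScalarTower A B Q := ⟨fun a b p => by
    change (a • b) • p = algebraMap A B a • (b • p)
    rw [Algebra.smul_def, mul_smul]⟩
  rw [injective_iff_map_eq_zero]
  intro y hy
  obtain ⟨x, rfl⟩ := mapOfCompatibleSMul_surjective B A B P N y
  have hcomm : ∀ t : P ⊗[A] N, f.rTensor N (mapOfCompatibleSMul B A B P N t) =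
      mapOfCompatibleSMul B A B Q N ((f.restrictScalars A).rTensor N t) := by
    intro t
    induction t using TensorProduct.induction_on with
    | zero => simp
    | tmul m n => simp
    | add x y hx hy => simp only [map_add, hx, hy]
  rw [hcomm] at hy
  obtain ⟨e, he, hex⟩ := exists_act_eq h _ hy
  have h1 : act A B P N e x = x := by
    have hinj : Function.Injective ((f.restrictScalars A).rTensor N) :=
      Module.Flat.rTensor_preserves_injective_linearMap (M := N) (f.restrictScalars A) hf
    apply hinj
    rw [rTensor_act, hex]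
  rw [← h1, proj_act, he, zero_smul]

end Ker

section Surj

/-- a module over `S` that is flat over `R` is flat over `S` when `R → S` is surjective -/
theorem flat_of_surjective {R S : Type u} [CommRing R] [CommRing S] [Algebra R S]
    (hs : Function.Surjective (algebraMap R S)) (N : Type u) [AddCommGroup N] [Module R N]
    [Module S N] [IsScalarTower R S N] [Module.Flat R N] : Module.Flat S N := by
  have hepi := Algebra.isEpi_of_surjective_algebraMap (R := R) (A := S) hs
  refine flat_of_flat (A := R) (RingHom.Flat.of_bijective ⟨?_, ?_⟩)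
  · exact hepi.injective_lift_mul
  · intro s
    exact ⟨s ⊗ₜ 1, by simp⟩

theorem flat_ringHom_of_surjective {R S T : Type u} [CommRing R] [CommRing S] [CommRing T]
    (f : R →+* S) (hf : Function.Surjective f) (g : S →+* T) (h : (g.comp f).Flat) : g.Flat := by
  algebraize [f, g, g.comp f]
  exact flat_of_surjective (R := R) (S := S) hf T

theorem flat_lmul_of_tower (A B C : Type u) [CommRing A] [CommRing B] [CommRing C]
    [Algebra A B] [Algebra A C] [Algebra B C] [IsScalarTower A B C]
    (h : (Algebra.TensorProduct.lmul' A (S := C)).Flat) :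
    (Algebra.TensorProduct.lmul' B (S := C)).Flat := by
  let f : C ⊗[A] C →ₐ[A] C ⊗[B] C := Algebra.TensorProduct.mapOfCompatibleSMul B A A C C
  have hf : Function.Surjective f := Algebra.TensorProduct.mapOfCompatibleSMul_surjective _ _ _ _ _
  refine flat_ringHom_of_surjective f.toRingHom hf _ ?_
  have : (Algebra.TensorProduct.lmul' B (S := C)).toRingHom.comp f.toRingHom =
      (Algebra.TensorProduct.lmul' A (S := C)).toRingHom := by
    refine RingHom.ext fun x => ?_
    change Algebra.TensorProduct.lmul' B (f x) = Algebra.TensorProduct.lmul' A x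
    induction x using TensorProduct.induction_on with
    | zero => simp
    | tmul m n => simp [f]
    | add x y hx hy => simp only [map_add, hx, hy]
  rw [this]
  exact h

end Surj

end K361.FlatMul
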