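import Groth.Agent.S2038
import Groth.Agent.Ega4A.InsepReduction
import Groth.Agent.CurvesC.RegNormal

/-!
# Adic formal smoothness of extensions of discrete valuation rings
-/

set_option autoImplicit false
universe u

open TensorProduct IsLocalRing

namespace K361.GeomRegDvr

/-- A reduced Artinian ring is regular. -/
theorem isRegularRing_of_isArtinianRing (R : Type u) [CommRing R] [IsArtinianRing R] [IsReduced R] :
    IsRegularRing R := by
  rw [isRegularRing_iff]
  intro p hp
  have hf : IsField (Localization.AtPrime p) := by
    have : IsArtinianRing (Localization.AtPrime p) := inferInstance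
    exact IsArtinianRing.isField_of_isReduced_of_isLocalRing _
  let := hf.toField
  infer_instance

theorem isReduced_of_isRegularRing (S : Type u) [CommRing S] [IsRegularRing S] : IsReduced S := by
  apply isReduced_ofLocalizationMaximal
  intro J hJ
  have : IsDomain (Localization.AtPrime J) := Groth.Agent.CurvesC.RegNormal.isDomain _
  infer_instance

theorem isRegularRing_of_isGeometricallyRegular (k S : Type u) [Field k] [CommRing S] [Algebra k S]
    (h : CAlg.IsGeometricallyRegular k S) : IsRegularRing S := by
  have h1 : IsRegularRing (k ⊗[k] S) := h k inferInstance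
  exact IsRegularRing.of_ringEquiv (Algebra.TensorProduct.lid k S).toRingEquiv

/-- An algebra over a field which stays reduced after all finite extensions is geometrically reduced. -/
theorem isGeometricallyReduced_of_forall_finite (k S : Type u) [Field k] [CommRing S] [Algebra k S]
    (h : ∀ (k' : Type u) [Field k'] [Algebra k k'], Module.Finite k k' → IsReduced (k' ⊗[k] S)) :
    Algebra.IsGeometricallyReduced k S := by
  rw [Algebra.isGeometricallyReduced_field_iff]
  have h1 : IsReduced (S ⊗[k] AlgebraicClosure k) := by
    apply IsReduced.tensorProduct_of_flat_of_forall_fg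
    intro B hB
    have h2 : Algebra.IsIntegral k B := ⟨fun x ↦ (isIntegral_algHom_iff B.val Subtype.val_injective).1
      (Algebra.IsIntegral.isIntegral (R := k) (x : AlgebraicClosure k))⟩
    have h3 : Algebra.FiniteType k B := (Subalgebra.fg_iff_finiteType B).1 hB
    have h4 : Module.Finite k B := Algebra.IsIntegral.finite
    let _ : Field B := (isField_of_isIntegral_of_isField' (R := k) (S := B)
      (Field.toIsField k)).toField
    have h5 := h B h4
    exact isReduced_of_injective (Algebra.TensorProduct.comm k S B)
      (Algebra.TensorProduct.comm k S B).injective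
  exact isReduced_of_injective (Algebra.TensorProduct.comm k (AlgebraicClosure k) S)
    (Algebra.TensorProduct.comm k (AlgebraicClosure k) S).injective

/-- A ring which is a field is geometrically regular over `k` iff it is geometrically reduced. -/
theorem isGeometricallyRegular_iff_of_isField (k F : Type u) [Field k] [CommRing F] [Algebra k F]
    (hF : IsField F) : CAlg.IsGeometricallyRegular k F ↔ Algebra.IsGeometricallyReduced k F := by
  constructor
  · intro h
    refine isGeometricallyReduced_of_forall_finite k F fun k' _ _ hk' => ?_
    have := h k' hk'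
    exact isReduced_of_isRegularRing _
  · intro h
    let := hF.toField
    intro k' _ _ _
    have h1 : IsReduced (k' ⊗[k] F) := inferInstance
    have : Module.Finite F (F ⊗[k] k') := inferInstance
    have : IsReduced (F ⊗[k] k') := isReduced_of_injective (Algebra.TensorProduct.comm k F k')
      (Algebra.TensorProduct.comm k F k').injective
    have : IsArtinianRing (F ⊗[k] k') := IsArtinianRing.of_finite F _
    have := isRegularRing_of_isArtinianRing (F ⊗[k] k')
    exact IsRegularRing.of_ringEquiv (Algebra.TensorProduct.comm k F k').toRingEquiv

section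

variable (A B : Type u) [CommRing A] [IsLocalRing A] [CommRing B] [IsLocalRing B] [Algebra A B]
  [IsLocalHom (algebraMap A B)]

/-- The residue field, two ways. -/
noncomputable def resEquiv : ResidueField A ≃+* (maximalIdeal A).ResidueField :=
  RingEquiv.ofBijective (algebraMap (A ⧸ maximalIdeal A) (maximalIdeal A).ResidueField)
    (Ideal.bijective_algebraMap_quotient_residueField (maximalIdeal A))

theorem resEquiv_residue (a : A) :
    resEquiv A (residue A a) = algebraMap A (maximalIdeal A).ResidueField a := rfl

/-- The closed fibre when `m_A B = m_B`. -/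
noncomputable def fibEquiv (h : (maximalIdeal A).map (algebraMap A B) = maximalIdeal B) :
    (maximalIdeal A).Fiber B ≃+* ResidueField B :=
  (Groth.Agent.S2038.fibreEquiv A B).trans (Ideal.quotEquivOfEq h)

theorem fibEquiv_algebraMap (h : (maximalIdeal A).map (algebraMap A B) = maximalIdeal B)
    (x : ResidueField A) :
    fibEquiv A B h (algebraMap _ ((maximalIdeal A).Fiber B) (resEquiv A x)) =
      algebraMap (ResidueField A) (ResidueField B) x := by
  obtain ⟨a, rfl⟩ := residue_surjective x
  rw [resEquiv_residue, ← IsScalarTower.algebraMap_apply]
  have h1 : algebraMap A ((maximalIdeal A).Fiber B) a =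
      (Algebra.TensorProduct.includeRight : B →ₐ[A] (maximalIdeal A).Fiber B)
        (algebraMap A B a) := by
    rw [AlgHom.commutes]
  rw [h1, fibEquiv, RingEquiv.trans_apply, Groth.Agent.S2038.fibreEquiv_includeRight]
  rfl

theorem isGeometricallyReduced_iff
    (h : (maximalIdeal A).map (algebraMap A B) = maximalIdeal B) :
    Algebra.IsGeometricallyReduced (maximalIdeal A).ResidueField ((maximalIdeal A).Fiber B) ↔
      Algebra.IsGeometricallyReduced (ResidueField A) (ResidueField B) := by
  constructor
  · intro h1
    refine Groth.Agent.Ega4A.InsepReduction.isGeometricallyReduced_of_equiv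
      (k := (maximalIdeal A).ResidueField) (A := (maximalIdeal A).Fiber B)
      (resEquiv A) (fibEquiv A B h).symm fun x => ?_
    rw [RingEquiv.symm_apply_eq, fibEquiv_algebraMap]
  · intro h1
    refine Groth.Agent.Ega4A.InsepReduction.isGeometricallyReduced_of_equiv
      (k := ResidueField A) (A := ResidueField B)
      (resEquiv A).symm (fibEquiv A B h) fun x => ?_
    rw [← fibEquiv_algebraMap A B h, RingEquiv.apply_symm_apply]

end

/-- For a flat local homomorphism of discrete valuation rings. -/
theorem isGeometricallyRegular_fiber_iff (A B : Type u) [CommRing A] [IsDomain A]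
    [IsDiscreteValuationRing A] [CommRing B] [IsDomain B] [IsDiscreteValuationRing B] [Algebra A B]
    [IsLocalHom (algebraMap A B)] (hinj : Function.Injective (algebraMap A B)) :
    CAlg.IsGeometricallyRegular (maximalIdeal A).ResidueField ((maximalIdeal A).Fiber B) ↔
      (maximalIdeal A).map (algebraMap A B) = maximalIdeal B ∧
        Algebra.IsGeometricallyReduced (ResidueField A) (ResidueField B) := by
  constructor
  · intro h
    have h2 : IsRegularRing ((maximalIdeal A).Fiber B) :=
      isRegularRing_of_isGeometricallyRegular (maximalIdeal A).ResidueField _ h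
    have h3 : IsReduced ((maximalIdeal A).Fiber B) := isReduced_of_isRegularRing _
    have h4 : IsReduced (B ⧸ (maximalIdeal A).map (algebraMap A B)) :=
      isReduced_of_injective (Groth.Agent.S2038.fibreEquiv A B).symm
        (Groth.Agent.S2038.fibreEquiv A B).symm.injective
    have h5 : (maximalIdeal A).map (algebraMap A B) = maximalIdeal B := by
      refine le_antisymm (((local_hom_TFAE (algebraMap A B)).out 0 2 rfl rfl).mp ‹_›) ?_
      have hrad : ((maximalIdeal A).map (algebraMap A B)).IsRadical :=
        (Ideal.isRadical_iff_quotient_reduced _).mpr h4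
      obtain ⟨π, hπ⟩ := IsDiscreteValuationRing.exists_irreducible A
      obtain ⟨ρ, hρ⟩ := IsDiscreteValuationRing.exists_irreducible B
      have hne : algebraMap A B π ≠ 0 := by
        rw [Ne, map_eq_zero_iff _ hinj]
        exact hπ.ne_zero
      obtain ⟨n, u, hu⟩ := IsDiscreteValuationRing.eq_unit_mul_pow_irreducible hne hρ
      have h6 : ρ ^ n ∈ (maximalIdeal A).map (algebraMap A B) := by
        have h7 : ρ ^ n = algebraMap A B π * ((u⁻¹ : Bˣ) : B) := by
          rw [hu, mul_comm, ← mul_assoc, Units.inv_mul, one_mul]
        rw [h7]
        refine Ideal.mul_mem_right _ _ (Ideal.mem_map_of_mem _ ?_)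
        rw [hπ.maximalIdeal_eq]
        exact Ideal.mem_span_singleton_self π
      have h8 : ρ ∈ (maximalIdeal A).map (algebraMap A B) := hrad ⟨n, h6⟩
      rw [hρ.maximalIdeal_eq, Ideal.span_singleton_le_iff_mem]
      exact h8
    refine ⟨h5, ?_⟩
    rw [← isGeometricallyReduced_iff A B h5, ← isGeometricallyRegular_iff_of_isField]
    · exact h
    · exact (fibEquiv A B h5).toMulEquiv.isField (Field.toIsField _)
  · rintro ⟨h5, h⟩
    rw [isGeometricallyRegular_iff_of_isField, isGeometricallyReduced_iff A B h5]
    · exact h
    · exact (fibEquiv A B h5).toMulEquiv.isField (Field.toIsField _)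

end K361.GeomRegDvr
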