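import Groth.Agent.S0271

/-!
# The inertia invariants are formally étale at the marked point
-/

set_option autoImplicit false
universe u

open IsLocalRing

namespace K361.InertiaEtale

/-- `A = B^G`, `B' = B^I`, `T` a localization of `B'` at a submonoid avoiding `m ∩ B'`... -/
theorem formallyEtale (G A B B' : Type u) [Group G] [Finite G] [CommRing A] [CommRing B]
    [CommRing B'] [MulSemiringAction G B] [Algebra A B] [Algebra A B'] [Algebra B' B]
    [IsScalarTower A B' B] (m : Ideal B) [m.IsPrime]
    (hA : Function.Injective (algebraMap A B))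
    (hAG : ∀ b : B, (∀ σ : G, σ • b = b) ↔ b ∈ Set.range (algebraMap A B))
    (hB : Function.Injective (algebraMap B' B))
    (hBI : ∀ b : B, (∀ σ ∈ m.inertia G, σ • b = b) ↔ b ∈ Set.range (algebraMap B' B)) :
    Algebra.FormallyEtale A (Localization.AtPrime (m.comap (algebraMap B' B))) := by
  obtain ⟨g, hg, hget⟩ := Groth.Agent.S0271.result G B m
  set m' := m.comap (algebraMap B' B) with hm'
  let T := Localization.AtPrime m'
  -- the two isomorphisms
  let f0 : A →+* FixedPoints.subring B G := (algebraMap A B).codRestrict _ (fun a => by
    intro σ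
    exact (hAG _).mpr ⟨a, rfl⟩ σ)
  have hf0 : Function.Bijective f0 := by
    refine ⟨fun a b hab => hA (congrArg Subtype.val hab), fun x => ?_⟩
    obtain ⟨a, ha⟩ := (hAG x.1).mp x.2
    exact ⟨a, Subtype.ext ha⟩
  let f1 : B' →+* FixedPoints.subring B (m.inertia G) := (algebraMap B' B).codRestrict _ (fun b => by
    intro σ
    exact (hBI _).mpr ⟨b, rfl⟩ σ.1 σ.2)
  have hf1 : Function.Bijective f1 := by
    refine ⟨fun a b hab => hB (congrArg Subtype.val hab), fun x => ?_⟩
    obtain ⟨a, ha⟩ := (hBI x.1).mp (fun σ hσ => x.2 ⟨σ, hσ⟩)
    exact ⟨a, Subtype.ext ha⟩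
  let e1 : B' ≃+* FixedPoints.subring B (m.inertia G) := RingEquiv.ofBijective f1 hf1
  -- `T` as an algebra over `B^I`
  let _ : Algebra (FixedPoints.subring B (m.inertia G)) T :=
    ((algebraMap B' T).comp e1.symm.toRingHom).toAlgebra
  have hT1 : ∀ x, algebraMap (FixedPoints.subring B (m.inertia G)) T x =
      algebraMap B' T (e1.symm x) := fun x => rfl
  have hloc : IsLocalization (m'.primeCompl.map e1) T :=
    IsLocalization.isLocalization_of_base_ringEquiv m'.primeCompl T e1
  have : Algebra.FormallyEtale (FixedPoints.subring B (m.inertia G)) T :=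
    Algebra.FormallyEtale.of_isLocalization (m'.primeCompl.map e1)
  have hgu : IsUnit (algebraMap (FixedPoints.subring B (m.inertia G)) T g) := by
    rw [hT1]
    refine IsLocalization.map_units T (⟨e1.symm g, ?_⟩ : m'.primeCompl)
    intro h1
    apply hg
    have h2 : algebraMap B' B (e1.symm g) ∈ m := h1
    have h3 : algebraMap B' B (e1.symm g) = (g : B) := congrArg Subtype.val (e1.apply_symm_apply g)
    rw [h3] at h2
    exact h2
  let _ : Algebra (Localization.Away g) T := (IsLocalization.Away.lift g hgu).toAlgebra
  have : IsScalarTower (FixedPoints.subring B (m.inertia G)) (Localization.Away g) T :=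
    IsScalarTower.of_algebraMap_eq fun x => (IsLocalization.Away.lift_eq g hgu x).symm
  have : Algebra.FormallyEtale (FixedPoints.subring B (m.inertia G)) (Localization.Away g) :=
    Algebra.FormallyEtale.of_isLocalization (Submonoid.powers g)
  have : Algebra.FormallyEtale (Localization.Away g) T :=
    Algebra.FormallyEtale.of_restrictScalars (R := FixedPoints.subring B (m.inertia G))
  let _ : Algebra (FixedPoints.subring B G) T :=
    ((algebraMap (Localization.Away g) T).comp
      (algebraMap (FixedPoints.subring B G) (Localization.Away g))).toAlgebra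
  have : IsScalarTower (FixedPoints.subring B G) (Localization.Away g) T :=
    IsScalarTower.of_algebraMap_eq fun x => rfl
  have : Algebra.FormallyEtale (FixedPoints.subring B G) T :=
    Algebra.FormallyEtale.comp _ (Localization.Away g) T
  let _ : Algebra A (FixedPoints.subring B G) := f0.toAlgebra
  have : Algebra.FormallyEtale A (FixedPoints.subring B G) :=
    Algebra.FormallyEtale.of_equiv (AlgEquiv.ofBijective (Algebra.ofId A _) hf0)
  have : IsScalarTower A (FixedPoints.subring B G) T := by
    refine IsScalarTower.of_algebraMap_eq fun a => ?_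
    have h1 : algebraMap (FixedPoints.subring B G) T (algebraMap A (FixedPoints.subring B G) a) =
        algebraMap (Localization.Away g) T (algebraMap (FixedPoints.subring B (m.inertia G))
          (Localization.Away g) (algebraMap (FixedPoints.subring B G)
            (FixedPoints.subring B (m.inertia G)) (f0 a))) := rfl
    rw [h1, ← IsScalarTower.algebraMap_apply, hT1]
    have h2 : e1.symm (algebraMap (FixedPoints.subring B G)
            (FixedPoints.subring B (m.inertia G)) (f0 a)) = algebraMap A B' a := by
      rw [RingEquiv.symm_apply_eq]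
      refine Subtype.ext ?_
      change algebraMap A B a = algebraMap B' B (algebraMap A B' a)
      exact IsScalarTower.algebraMap_apply A B' B a
    rw [h2]
    exact IsScalarTower.algebraMap_apply A B' T a
  exact Algebra.FormallyEtale.comp A (FixedPoints.subring B G) T

end K361.InertiaEtale
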