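import Groth.Agent.EtAlg.K361.LocAway
import Groth.Agent.EtAlg.K361.InertiaEtale
import Mathlib.FieldTheory.Galois.Basic

/-!
# Étaleness of the inertia field
-/

set_option autoImplicit false
universe u

namespace K361.InertiaMain

theorem main (A K L B : Type u) [CommRing A] [IsDomain A]
    [IsDiscreteValuationRing A] [Field K] [Field L] [Algebra A K] [IsFractionRing A K] [Algebra K L]
    [Algebra A L] [IsScalarTower A K L] [FiniteDimensional K L] [IsGalois K L]
    [CommRing B] [Algebra A B] [Algebra B L] [IsScalarTower A B L] [IsIntegralClosure B A L]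
    [MulSemiringAction (L ≃ₐ[K] L) B]
    (hact : ∀ (σ : L ≃ₐ[K] L) (b : B), algebraMap B L (σ • b) = σ (algebraMap B L b))
    (m : Ideal B) [m.IsMaximal] (F : IntermediateField K L)
    (hF : F = IntermediateField.fixedField (m.inertia (L ≃ₐ[K] L)))
    (B' : Type u) [CommRing B'] [Algebra A B'] [Algebra B' B] [IsScalarTower A B' B] [Algebra B' L]
    [IsScalarTower B' B L] [Algebra B' F] [IsScalarTower B' F L] [IsIntegralClosure B' A F] :
    (∀ b : B, (∀ σ ∈ m.inertia (L ≃ₐ[K] L), σ • b = b) ↔ b ∈ Set.range (algebraMap B' B)) ∧
      Algebra.Etale A (Localization.AtPrime (m.comap (algebraMap B' B))) := by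
  have hT2 : IsScalarTower A K F := inferInstance
  have hT : IsScalarTower A F L := IsScalarTower.of_algebraMap_eq fun a => by
    rw [IsScalarTower.algebraMap_apply A K F, ← IsScalarTower.algebraMap_apply K F L,
      ← IsScalarTower.algebraMap_apply A K L]
  have hT3 : IsScalarTower A B' F := IsScalarTower.of_algebraMap_eq fun a => by
    apply (algebraMap F L).injective
    rw [← IsScalarTower.algebraMap_apply A F L, ← IsScalarTower.algebraMap_apply B' F L,
      IsScalarTower.algebraMap_apply B' B L, ← IsScalarTower.algebraMap_apply A B' B,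
      ← IsScalarTower.algebraMap_apply A B L]
  have hBL : Function.Injective (algebraMap B L) := IsIntegralClosure.algebraMap_injective B A L
  have hBdom : IsDomain B := hBL.isDomain (algebraMap B L)
  have hB'F : Function.Injective (algebraMap B' F) :=
    IsIntegralClosure.algebraMap_injective B' A F
  have hB'dom : IsDomain B' := hB'F.isDomain (algebraMap B' F)
  have hFL : ∀ x : F, algebraMap F L x = (x : L) := fun _ => rfl
  have hB'L : ∀ b' : B', algebraMap B L (algebraMap B' B b') = ((algebraMap B' F b' : F) : L) := by
    intro b'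
    rw [← IsScalarTower.algebraMap_apply B' B L, IsScalarTower.algebraMap_apply B' F L]
    rfl
  have hB'B : Function.Injective (algebraMap B' B) := by
    intro x y hxy
    apply hB'F
    apply Subtype.ext
    rw [← hB'L, ← hB'L, hxy]
  have hKL : Function.Injective (algebraMap A L) := by
    rw [IsScalarTower.algebraMap_eq A K L]
    exact (algebraMap K L).injective.comp (IsFractionRing.injective A K)
  have hAB : Function.Injective (algebraMap A B) := by
    intro x y hxy
    apply hKL
    rw [IsScalarTower.algebraMap_apply A B L, hxy, ← IsScalarTower.algebraMap_apply A B L]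
  -- part 1
  have part1 : ∀ b : B, (∀ σ ∈ m.inertia (L ≃ₐ[K] L), σ • b = b) ↔
      b ∈ Set.range (algebraMap B' B) := by
    intro b
    constructor
    · intro hb
      have h1 : algebraMap B L b ∈ F := by
        rw [hF, IntermediateField.mem_fixedField_iff]
        intro σ hσ
        rw [← hact, hb σ hσ]
      have h2 : IsIntegral A (⟨algebraMap B L b, h1⟩ : F) := by
        have h3 : IsIntegral A (algebraMap B L b) :=
          (IsIntegralClosure.isIntegral_iff (A := B)).mpr ⟨b, rfl⟩
        exact (isIntegral_algHom_iff (IsScalarTower.toAlgHom A F L)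
          (algebraMap F L).injective).mp h3
      obtain ⟨b', hb'⟩ := (IsIntegralClosure.isIntegral_iff (A := B')).mp h2
      refine ⟨b', hBL ?_⟩
      rw [hB'L, hb']
    · rintro ⟨b', rfl⟩ σ hσ
      apply hBL
      rw [hact, hB'L]
      have h1 : ∀ x ∈ F, ∀ σ ∈ m.inertia (L ≃ₐ[K] L), σ x = x := by
        intro x hx
        rw [hF, IntermediateField.mem_fixedField_iff] at hx
        exact hx
      exact h1 _ (algebraMap B' F b').2 σ hσ
  refine ⟨part1, ?_⟩
  have hAG : ∀ b : B, (∀ σ : (L ≃ₐ[K] L), σ • b = b) ↔ b ∈ Set.range (algebraMap A B) := by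
    intro b
    constructor
    · intro hb
      have h1 : ∀ σ : L ≃ₐ[K] L, σ (algebraMap B L b) = algebraMap B L b := by
        intro σ
        rw [← hact, hb σ]
      obtain ⟨x, hx⟩ := (IsGalois.mem_bot_iff_fixed (F := K) (algebraMap B L b)).mpr h1
      have h3 : IsIntegral A (algebraMap B L b) :=
        (IsIntegralClosure.isIntegral_iff (A := B)).mpr ⟨b, rfl⟩
      have h4 : IsIntegral A x := by
        have h5 : IsIntegral A (algebraMap K L x) := by
          have h6 : algebraMap K L x = algebraMap B L b := hx
          rw [h6]
          exact h3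
        exact (isIntegral_algHom_iff (IsScalarTower.toAlgHom A K L)
          (algebraMap K L).injective).mp h5
      obtain ⟨a, ha⟩ := IsIntegrallyClosed.isIntegral_iff.mp h4
      refine ⟨a, hBL ?_⟩
      rw [← IsScalarTower.algebraMap_apply A B L, IsScalarTower.algebraMap_apply A K L, ha]
      exact hx
    · rintro ⟨a, rfl⟩ σ
      apply hBL
      rw [hact, ← IsScalarTower.algebraMap_apply A B L, IsScalarTower.algebraMap_apply A K L,
        AlgEquiv.commutes]
  have hfe := K361.InertiaEtale.formallyEtale (L ≃ₐ[K] L) A B B' m hAB hAG hB'B part1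
  have hsep : Algebra.IsSeparable K F := Algebra.isSeparable_tower_bot_of_isSeparable K F L
  have hfin : Module.Finite A B' := IsIntegralClosure.finite A K F B'
  have hded : IsDedekindDomain B' := IsIntegralClosure.isDedekindDomain A K F B'
  have hint : Algebra.IsIntegral A B := IsIntegralClosure.isIntegral_algebra A L
  have hint' : Algebra.IsIntegral B' B := Algebra.IsIntegral.tower_top A
  have hmax : (m.comap (algebraMap B' B)).IsMaximal := Ideal.isMaximal_comap_of_isIntegral_of_isMaximal m
  have hAB' : Function.Injective (algebraMap A B') := by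
    intro x y hxy
    apply hAB
    rw [IsScalarTower.algebraMap_apply A B' B, hxy, ← IsScalarTower.algebraMap_apply A B' B]
  have hne : m.comap (algebraMap B' B) ≠ ⊥ := by
    intro h0
    have h1 : ((m.comap (algebraMap B' B)).comap (algebraMap A B')).IsMaximal :=
      Ideal.isMaximal_comap_of_isIntegral_of_isMaximal _
    rw [h0] at h1
    have h2 : (⊥ : Ideal B').comap (algebraMap A B') = ⊥ := by
      rw [← RingHom.ker_eq_comap_bot]
      exact (RingHom.injective_iff_ker_eq_bot _).mp hAB'
    rw [h2] at h1
    exact IsDiscreteValuationRing.not_a_field A (IsLocalRing.eq_maximalIdeal h1).symm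
  exact { formallyEtale := hfe
          finitePresentation := K361.LocAway.finitePresentation (A := A) (m.comap (algebraMap B' B)) hne _ }

end K361.InertiaMain
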