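import Groth.Agent.Etdl.H436.Krasner
import Groth.Agent.Etbc.H203.TensorRoot
import Groth.Agent.S0549
import Groth.Agent.S2653
import Groth.Agent.Pi1C.CompletionGlue

/-!
# Finite separable extensions of the completed fraction field come from the fraction field
-/

set_option autoImplicit false
universe u

open Polynomial IsLocalRing TensorProduct

namespace K361.KrasnerDvr

/-- Clearing denominators in a Bezout relation. -/
theorem exists_bezout {B Kh : Type*} [CommRing B] [IsDomain B] [Field Kh] [Algebra B Kh]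
    [IsFractionRing B Kh] (P : B[X]) (h : (P.map (algebraMap B Kh)).Separable) :
    ∃ (a b : B[X]) (w : B), w ≠ 0 ∧ a * P + b * derivative P = C w := by
  obtain ⟨a', b', hab⟩ := h
  obtain ⟨s, hs0, hs⟩ := IsLocalization.integerNormalization_spec (nonZeroDivisors B) a'
  obtain ⟨t, ht0, ht⟩ := IsLocalization.integerNormalization_spec (nonZeroDivisors B) b'
  refine ⟨C (t : B) * IsLocalization.integerNormalization (nonZeroDivisors B) a',
    C (s : B) * IsLocalization.integerNormalization (nonZeroDivisors B) b', s * t,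
    mul_ne_zero (nonZeroDivisors.ne_zero hs0) (nonZeroDivisors.ne_zero ht0), ?_⟩
  apply Polynomial.map_injective (algebraMap B Kh) (IsFractionRing.injective B Kh)
  rw [derivative_map] at hab
  simp only [Polynomial.map_add, Polynomial.map_mul, Polynomial.map_C, hs, ht, map_mul]
  rw [Algebra.smul_def, Algebra.smul_def]
  have h1 : ∀ x : B, algebraMap B Kh[X] x = C (algebraMap B Kh x) := fun x => rfl
  rw [h1, h1]
  linear_combination (C (algebraMap B Kh s) * C (algebraMap B Kh t)) * hab

section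

variable (A : Type u) [CommRing A] [IsDomain A] [IsDiscreteValuationRing A]

/-- Density of `A` in its completion, modulo a nonzero element. -/
theorem exists_dvd_sub (w : AdicCompletion (maximalIdeal A) A) (hw : w ≠ 0)
    (x : AdicCompletion (maximalIdeal A) A) :
    ∃ a : A, w ∣ x - algebraMap A _ a := by
  obtain ⟨ϖ, hϖ⟩ := IsDiscreteValuationRing.exists_irreducible A
  obtain ⟨n, u, hu, rfl⟩ := Groth.Agent.S2653.exists_eq_pow_mul A ϖ hϖ.maximalIdeal_eq w hw
  obtain ⟨a, ha⟩ := Groth.Agent.Pi1C.CompletionGlue.exists_sub_algebraMap_mem A n x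
  refine ⟨a, ?_⟩
  have h0 : maximalIdeal A ^ n = Ideal.span {ϖ ^ n} := by
    rw [hϖ.maximalIdeal_eq, Ideal.span_singleton_pow]
  rw [h0, Ideal.map_span, Set.image_singleton] at ha
  have h2 := Ideal.mem_span_singleton.mp ha
  rw [map_pow] at h2
  exact (hu.mul_right_dvd).mpr h2

/-- Approximation of a monic polynomial over the completion. -/
theorem exists_poly (w : AdicCompletion (maximalIdeal A) A) (hw : w ≠ 0) (hwu : ¬ IsUnit w)
    (P : (AdicCompletion (maximalIdeal A) A)[X]) (hP : P.Monic) :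
    ∃ Q : A[X], Q.Monic ∧ (Q.map (algebraMap A (AdicCompletion (maximalIdeal A) A))).natDegree =
      P.natDegree ∧ ∃ S : (AdicCompletion (maximalIdeal A) A)[X],
        Q.map (algebraMap A (AdicCompletion (maximalIdeal A) A)) = P + C w * S := by
  let B := AdicCompletion (maximalIdeal A) A
  have hnt : Nontrivial (B ⧸ Ideal.span {w}) := by
    rw [Ideal.Quotient.nontrivial_iff, Ne, Ideal.span_singleton_eq_top]
    exact hwu
  let f : A →+* B ⧸ Ideal.span {w} := (Ideal.Quotient.mk (Ideal.span {w})).comp (algebraMap A B)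
  have hf : Function.Surjective f := by
    intro y
    obtain ⟨x, rfl⟩ := Ideal.Quotient.mk_surjective y
    obtain ⟨a, ha⟩ := exists_dvd_sub A w hw x
    refine ⟨a, ?_⟩
    refine ((Ideal.Quotient.mk_eq_mk_iff_sub_mem _ _).mpr ?_).symm
    exact Ideal.mem_span_singleton.mpr ha
  have hlift : P.map (Ideal.Quotient.mk (Ideal.span {w})) ∈ Polynomial.lifts f := by
    rw [Polynomial.lifts_iff_coeff_lifts]
    intro n
    exact hf _
  obtain ⟨Q, hQ1, hQ2, hQ3⟩ := Polynomial.lifts_and_natDegree_eq_and_monic hlift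
    (hP.map (Ideal.Quotient.mk (Ideal.span {w})))
  refine ⟨Q, hQ3, ?_, ?_⟩
  · rw [hQ3.natDegree_map, hQ2, hP.natDegree_map]
  · have h1 : C w ∣ Q.map (algebraMap A B) - P := by
      rw [C_dvd_iff_dvd_coeff]
      intro i
      have h2 := congrArg (fun q => Polynomial.coeff q i) hQ1
      simp only [coeff_map] at h2
      rw [coeff_sub, coeff_map, ← Ideal.mem_span_singleton, ← Ideal.Quotient.mk_eq_mk_iff_sub_mem]
      exact h2
    obtain ⟨S, hS⟩ := h1
    exact ⟨S, by rw [← hS]; ring⟩

variable (Kh : Type u) [Field Kh] [Algebra (AdicCompletion (maximalIdeal A) A) Kh]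
    [IsFractionRing (AdicCompletion (maximalIdeal A) A) Kh]
    (M : Type u) [Field M] [Algebra Kh M] [FiniteDimensional Kh M] [Algebra.IsSeparable Kh M]

theorem exists_algEquiv :
    ∃ Q : A[X], Q.Monic ∧ Nonempty (AdjoinRoot ((Q.map
      (algebraMap A (AdicCompletion (maximalIdeal A) A))).map
        (algebraMap (AdicCompletion (maximalIdeal A) A) Kh)) ≃ₐ[Kh] M) := by
  let B := AdicCompletion (maximalIdeal A) A
  obtain ⟨hBdom, hBdvr⟩ := (Groth.Agent.S0549.result A).mp ⟨inferInstance, inferInstance⟩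
  let _ : Algebra B M := ((algebraMap Kh M).comp (algebraMap B Kh)).toAlgebra
  have : IsScalarTower B Kh M := IsScalarTower.of_algebraMap_eq fun _ => rfl
  obtain ⟨α, hα⟩ := Field.exists_primitive_element Kh M
  have hαa : IsAlgebraic B α := (IsFractionRing.isAlgebraic_iff B Kh M).mpr
    (Algebra.IsAlgebraic.isAlgebraic α)
  obtain ⟨c, hc0, hc⟩ := hαa.exists_integral_multiple
  set y := c • α with hy
  have hcK : algebraMap B Kh c ≠ 0 := by
    rw [Ne, map_eq_zero_iff _ (IsFractionRing.injective B Kh)]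
    exact hc0
  have hytop : IntermediateField.adjoin Kh {y} = ⊤ := by
    rw [eq_top_iff, ← hα, IntermediateField.adjoin_simple_le_iff]
    have h1 : α = (algebraMap B Kh c)⁻¹ • y := by
      rw [hy, ← IsScalarTower.algebraMap_smul Kh c α, smul_smul, inv_mul_cancel₀ hcK, one_smul]
    rw [h1]
    exact (IntermediateField.adjoin Kh {y}).smul_mem
      (IntermediateField.mem_adjoin_simple_self Kh y)
  set P := minpoly B y with hPdef
  have hP : P.Monic := minpoly.monic hc
  have hPK : minpoly Kh y = P.map (algebraMap B Kh) :=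
    minpoly.isIntegrallyClosed_eq_field_fractions' Kh hc
  have hsep : (P.map (algebraMap B Kh)).Separable := by
    rw [← hPK]
    exact Algebra.IsSeparable.isSeparable Kh y
  obtain ⟨a, b, w₀, hw₀, hab⟩ := exists_bezout P hsep
  obtain ⟨ρ, hρ⟩ := IsDiscreteValuationRing.exists_irreducible B
  set w := ρ * w₀ with hw
  have hw0 : w ≠ 0 := mul_ne_zero hρ.ne_zero hw₀
  have hwm : w ∈ maximalIdeal B := Ideal.mul_mem_right _ _ (by
    rw [hρ.maximalIdeal_eq]
    exact Ideal.mem_span_singleton_self ρ)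
  have hab' : (C ρ * a) * P + (C ρ * b) * derivative P = C w := by
    rw [hw, C_mul, ← hab]
    ring
  have hw3m : ¬ IsUnit (w ^ 3) := by
    intro h
    exact (mem_maximalIdeal w).mp hwm (isUnit_pow_iff (by norm_num) |>.mp h)
  obtain ⟨Q, hQ, hdeg, S, hS⟩ := exists_poly A (w ^ 3) (pow_ne_zero _ hw0) hw3m P hP
  have hcomp : IsAdicComplete (maximalIdeal B) B := inferInstance
  have hnoeth : IsNoetherianRing B := inferInstance
  obtain ⟨e⟩ := Groth.Agent.Etdl.H436.Krasner.nonempty_algEquiv (B := B) w hwm P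
    (Q.map (algebraMap A B)) S (C ρ * a) (C ρ * b) hP (hQ.map _) hdeg hab' hS
  refine ⟨Q, hQ, ⟨?_⟩⟩
  let e1 := (Groth.Agent.Etbc.H203.TensorRoot.tensorEquiv Kh (Q.map (algebraMap A B))).symm
  let e2 : Kh ⊗[B] AdjoinRoot (Q.map (algebraMap A B)) ≃ₐ[Kh] Kh ⊗[B] AdjoinRoot P :=
    Algebra.TensorProduct.congr AlgEquiv.refl e
  let e3 := Groth.Agent.Etbc.H203.TensorRoot.tensorEquiv Kh P
  have hint : IsIntegral Kh y := Algebra.IsIntegral.isIntegral y
  let e4 : AdjoinRoot (P.map (algebraMap B Kh)) ≃ₐ[Kh] AdjoinRoot (minpoly Kh y) := by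
    rw [hPK]
  let e5 := IntermediateField.adjoinRootEquivAdjoin Kh hint
  let e6 : IntermediateField.adjoin Kh {y} ≃ₐ[Kh] M :=
    (IntermediateField.equivOfEq hytop).trans IntermediateField.topEquiv
  exact e1.trans (e2.trans (e3.trans (e4.trans (e5.trans e6))))

end

end K361.KrasnerDvr
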