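import Mathlib.RingTheory.Polynomial.Cyclotomic.Roots
import Mathlib.RingTheory.Polynomial.Cyclotomic.Eval
import Mathlib.RingTheory.RootsOfUnity.Lemmas
import Mathlib.NumberTheory.Wilson
import Mathlib.Data.Nat.Choose.Dvd
import Mathlib.RingTheory.AdjoinRoot

/-!
# The polynomial `((1 + w z)^p - 1) / w^p`, `w = 1 - ζ_p`
-/

set_option autoImplicit false
universe u

namespace K361.KummerAS

open Polynomial Finset

theorem exists_u {p : ℕ} (hp : p.Prime) {R : Type*} [CommRing R] [IsDomain R] {ζ : R}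
    (hζ : IsPrimitiveRoot ζ p) :
    ∃ u : R, (p : R) = u * (1 - ζ) ^ (p - 1) ∧ u + 1 ∈ Ideal.span {1 - ζ} := by
  obtain ⟨n, rfl⟩ : ∃ n, p = n + 1 := ⟨p - 1, by have := hp.pos; omega⟩
  have hn : n ≠ 0 := fun h => by rw [h] at hp; exact hp.ne_one rfl
  have h1 := hζ.prod_one_sub_pow_eq_order
  have h2 : ∀ k, 1 - ζ ^ (k + 1) = (∑ i ∈ range (k + 1), ζ ^ i) * (1 - ζ) := fun k => by
    rw [geom_sum_mul_neg]
  have hu : ((n + 1 : ℕ) : R) = (∏ k ∈ range n, ∑ i ∈ range (k + 1), ζ ^ i) * (1 - ζ) ^ n := by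
    rw [Nat.cast_add, Nat.cast_one, ← h1, prod_congr rfl fun k _ => h2 k, prod_mul_distrib,
      prod_const, card_range]
  refine ⟨∏ k ∈ range n, ∑ i ∈ range (k + 1), ζ ^ i, by simpa using hu, ?_⟩
  let φ := Ideal.Quotient.mk (Ideal.span {1 - ζ})
  have hφw : φ (1 - ζ) = 0 := Ideal.Quotient.eq_zero_iff_mem.2 (Ideal.mem_span_singleton_self _)
  have hφζ : φ ζ = 1 := by
    have := hφw
    rw [map_sub, map_one, sub_eq_zero] at this
    exact this.symm
  have hφp : ((n + 1 : ℕ) : R ⧸ Ideal.span {1 - ζ}) = 0 := by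
    have := congrArg φ hu
    rw [map_natCast, map_mul, map_pow, hφw, zero_pow hn, mul_zero] at this
    exact this
  rw [← Ideal.Quotient.eq_zero_iff_mem]
  change φ _ = 0
  rw [map_add, map_prod, map_one]
  have h3 : ∀ k, φ (∑ i ∈ range (k + 1), ζ ^ i) = ((k + 1 : ℕ) : R ⧸ Ideal.span {1 - ζ}) := fun k => by
    rw [map_sum, sum_congr rfl fun i _ => by rw [map_pow, hφζ, one_pow]]
    simp
  rw [prod_congr rfl fun k _ => h3 k, ← Nat.cast_prod, prod_range_add_one_eq_factorial]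
  have : Fact (n + 1).Prime := ⟨hp⟩
  have h4 : (n + 1) ∣ n.factorial + 1 := by
    have := ZMod.wilsons_lemma (n + 1)
    rw [Nat.add_sub_cancel] at this
    rw [← ZMod.natCast_eq_zero_iff, Nat.cast_add, this]
    simp
  obtain ⟨c, hc⟩ := h4
  have h5 : ((n.factorial + 1 : ℕ) : R ⧸ Ideal.span {1 - ζ}) = 0 := by
    rw [hc, Nat.cast_mul, hφp, zero_mul]
  simpa using h5

/-- The polynomial over a domain containing a primitive root of unity. -/
theorem exists_poly {p : ℕ} (hp : p.Prime) {R : Type*} [CommRing R] [IsDomain R] {ζ : R}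
    (hζ : IsPrimitiveRoot ζ p) :
    ∃ P : R[X], C ((1 - ζ) ^ p) * P = (1 + C (1 - ζ) * X) ^ p - 1 ∧
      ∃ a : ℕ → R, (∀ i, a i ∈ Ideal.span {1 - ζ}) ∧
        P = X ^ p - X + (Finset.Ioo 0 p).sum (fun i => C (a i) * X ^ i) := by
  obtain ⟨u, hu, hu1⟩ := exists_u hp hζ
  set w := 1 - ζ with hwdef
  have hp2 := hp.two_le
  let a : ℕ → R := fun i => if i = 1 then u + 1 else if i = 0 then 0 else
    ((p.choose i / p : ℕ) : R) * u * w ^ (i - 1)
  have ha : ∀ i, a i ∈ Ideal.span {w} := by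
    intro i
    simp only [a]
    split_ifs with h1 h2
    · exact hu1
    · exact Ideal.zero_mem _
    · exact Ideal.mul_mem_left _ _ (Ideal.pow_mem_of_mem _ (Ideal.mem_span_singleton_self w) _
        (by omega))
  refine ⟨X ^ p - X + (Finset.Ioo 0 p).sum (fun i => C (a i) * X ^ i), ?_, a, ha, rfl⟩
  have hbin : (1 + C w * X) ^ p - 1 = (C (w ^ p) * X ^ p) +
      (Finset.Ioo 0 p).sum (fun i => C (w ^ i * (p.choose i : R)) * X ^ i) := by
    rw [add_comm (1 : R[X]), add_pow, Finset.sum_range_succ, Finset.range_eq_Ico,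
      Finset.sum_eq_sum_Ico_succ_bot hp.pos]
    have h1 : Finset.Ico (0 + 1) p = Finset.Ioo 0 p := by ext; simp [Finset.mem_Ico, Finset.mem_Ioo]; omega
    rw [h1]
    have h2 : ∀ i, (C w * X) ^ i * 1 ^ (p - i) * (p.choose i : R[X]) =
        C (w ^ i * (p.choose i : R)) * X ^ i := fun i => by
      rw [mul_pow, one_pow, mul_one, C_mul, C_pow, ← Polynomial.C_eq_natCast]; ring
    rw [Finset.sum_congr rfl fun i _ => h2 i]
    simp [mul_pow]
    ring
  rw [hbin]
  have hsplit : ∀ g : ℕ → R[X], (Finset.Ioo 0 p).sum g = g 1 + (Finset.Ioo 1 p).sum g := by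
    intro g
    have h1 : Finset.Ioo 0 p = insert 1 (Finset.Ioo 1 p) := by
      ext i; simp only [Finset.mem_Ioo, Finset.mem_insert]; omega
    rw [h1, Finset.sum_insert (by simp)]
  rw [hsplit, hsplit]
  have hw1 : w ^ p * u = w ^ 1 * (p.choose 1 : R) := by
    rw [Nat.choose_one_right, hu]
    have : p = (p - 1) + 1 := by omega
    conv_lhs => rw [this]
    ring
  have hwi : ∀ i ∈ Finset.Ioo 1 p, C (w ^ p) * (C (a i) * X ^ i) =
      C (w ^ i * (p.choose i : R)) * X ^ i := by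
    intro i hi
    rw [Finset.mem_Ioo] at hi
    rw [← mul_assoc, ← C_mul]
    congr 2
    have h0 : a i = ((p.choose i / p : ℕ) : R) * u * w ^ (i - 1) := by
      simp only [a]; rw [if_neg (by omega), if_neg (by omega)]
    have h1 : p.choose i = p * (p.choose i / p) :=
      (Nat.mul_div_cancel' (hp.dvd_choose_self (by omega) hi.2)).symm
    have h2 : (p.choose i : R) = (p : R) * ((p.choose i / p : ℕ) : R) := by
      rw [← Nat.cast_mul, ← h1]
    rw [h0, h2, hu]
    have h3 : p = (p - 1) + 1 := by omega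
    have h4 : w ^ p = w ^ (p - 1) * w := by rw [← pow_succ, ← h3]
    have h5 : w ^ i = w * w ^ (i - 1) := by rw [← pow_succ']; congr 1; omega
    rw [h4, h5]; ring
  have ha1 : a 1 = u + 1 := by simp [a]
  rw [mul_add, mul_add, mul_sum, Finset.sum_congr rfl hwi, ha1, mul_sub]
  have h6 : C (w ^ 1 * (p.choose 1 : R)) * (X : R[X]) ^ 1 = C (w ^ p) * C u * X := by
    rw [← hw1, C_mul]; ring
  rw [h6, C_add, C_1]
  ring

theorem exists_poly_add {p : ℕ} {R : Type*} [CommRing R] [IsDomain R] {w : R} (hw : w ≠ 0)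
    (P : R[X]) (hP : C (w ^ p) * P = (1 + C w * X) ^ p - 1) :
    aeval (MvPolynomial.X 0 + MvPolynomial.X 1 +
        algebraMap R (MvPolynomial (Fin 2) R) w * MvPolynomial.X 0 * MvPolynomial.X 1) P =
      aeval (MvPolynomial.X 0) P + aeval (MvPolynomial.X 1) P +
        algebraMap R (MvPolynomial (Fin 2) R) (w ^ p) * aeval (MvPolynomial.X 0) P *
          aeval (MvPolynomial.X 1) P := by
  have key : ∀ z : MvPolynomial (Fin 2) R, algebraMap R (MvPolynomial (Fin 2) R) (w ^ p) * aeval z P =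
      (1 + algebraMap R (MvPolynomial (Fin 2) R) w * z) ^ p - 1 := by
    intro z
    have := congrArg (aeval z) hP
    simpa only [map_mul, map_sub, map_pow, map_add, map_one, aeval_X, aeval_C] using this
  have hw' : algebraMap R (MvPolynomial (Fin 2) R) (w ^ p) ≠ 0 := by
    intro h
    have := MvPolynomial.C_injective (Fin 2) R (h.trans (map_zero _).symm)
    exact hw (pow_eq_zero_iff (n := p) (by rintro rfl; simp at this) |>.1 this)
  apply mul_left_cancel₀ hw'
  have k1 := key (MvPolynomial.X 0)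
  have k2 := key (MvPolynomial.X 1)
  have k3 := key (MvPolynomial.X 0 + MvPolynomial.X 1 +
        algebraMap R (MvPolynomial (Fin 2) R) w * MvPolynomial.X 0 * MvPolynomial.X 1)
  have e3 : (1 + algebraMap R (MvPolynomial (Fin 2) R) w * (MvPolynomial.X 0 + MvPolynomial.X 1 +
        algebraMap R (MvPolynomial (Fin 2) R) w * MvPolynomial.X 0 * MvPolynomial.X 1)) ^ p =
      (1 + algebraMap R (MvPolynomial (Fin 2) R) w * MvPolynomial.X 0) ^ p *
        (1 + algebraMap R (MvPolynomial (Fin 2) R) w * MvPolynomial.X 1) ^ p := by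
    rw [← mul_pow]; congr 1; ring
  linear_combination k3 + e3 - (1 + algebraMap R (MvPolynomial (Fin 2) R) w * MvPolynomial.X 1) ^ p * k1
    - (algebraMap R (MvPolynomial (Fin 2) R) (w ^ p) * aeval (MvPolynomial.X 0) P + 1) * k2

theorem main (p : ℕ) (hp : p.Prime) (A : Type u) [CommRing A] (ζ : A)
    (hζ : aeval ζ (cyclotomic p ℤ) = 0) :
    ∃ P : A[X], C ((1 - ζ) ^ p) * P = (1 + C (1 - ζ) * X) ^ p - 1 ∧
      (∃ a : ℕ → A, (∀ i, a i ∈ Ideal.span {1 - ζ}) ∧
        P = X ^ p - X + (Finset.Ioo 0 p).sum (fun i => C (a i) * X ^ i)) ∧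
      ∀ (S : Type u) [CommRing S] [Algebra A S] (z₁ z₂ : S),
        aeval (z₁ + z₂ + algebraMap A S (1 - ζ) * z₁ * z₂) P =
          aeval z₁ P + aeval z₂ P + algebraMap A S ((1 - ζ) ^ p) * aeval z₁ P * aeval z₂ P := by
  have : Fact p.Prime := ⟨hp⟩
  let R := AdjoinRoot (cyclotomic p ℤ)
  have hdom : IsDomain R := AdjoinRoot.isDomain_of_prime (cyclotomic.irreducible hp.pos).prime
  have hdeg : (cyclotomic p ℤ).degree ≠ 0 := by
    rw [degree_cyclotomic]
    exact_mod_cast (Nat.totient_pos.2 hp.pos).ne'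
  have hinj : Function.Injective (AdjoinRoot.of (cyclotomic p ℤ)) :=
    AdjoinRoot.of.injective_of_degree_ne_zero hdeg
  have hp0 : ((p : ℕ) : R) ≠ 0 := by
    intro h
    have h1 : AdjoinRoot.of (cyclotomic p ℤ) (p : ℤ) = AdjoinRoot.of (cyclotomic p ℤ) 0 := by
      rw [map_zero, ← h]; simp [R]
    exact hp.ne_zero (by exact_mod_cast hinj h1)
  have : NeZero ((p : ℕ) : R) := ⟨hp0⟩
  let ζ₀ : R := AdjoinRoot.root (cyclotomic p ℤ)
  have hroot : (cyclotomic p R).IsRoot ζ₀ := by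
    have h1 := AdjoinRoot.eval₂_root (cyclotomic p ℤ)
    have h3 : AdjoinRoot.of (cyclotomic p ℤ) = Int.castRingHom R := RingHom.ext_int _ _
    rw [IsRoot.def, ← map_cyclotomic_int p R, eval_map, ← h3]
    exact h1
  have hprim : IsPrimitiveRoot ζ₀ p := isRoot_cyclotomic_iff.1 hroot
  have hw0 : 1 - ζ₀ ≠ 0 := by
    intro h
    rw [sub_eq_zero] at h
    rw [← h] at hroot
    rw [IsRoot.def, eval_one_cyclotomic_prime] at hroot
    exact hp0 hroot
  obtain ⟨P₀, hP₀, a₀, ha₀, hPa⟩ := exists_poly hp hprim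
  let f : R →+* A := AdjoinRoot.lift (algebraMap ℤ A) ζ hζ
  have hfζ : f ζ₀ = ζ := AdjoinRoot.lift_root _
  have hfw : f (1 - ζ₀) = 1 - ζ := by rw [map_sub, map_one, hfζ]
  refine ⟨P₀.map f, ?_, ⟨fun i => f (a₀ i), fun i => ?_, ?_⟩, ?_⟩
  · have := congrArg (Polynomial.map f) hP₀
    simpa only [Polynomial.map_mul, map_C, map_pow, hfw, Polynomial.map_sub, Polynomial.map_pow,
      Polynomial.map_add, Polynomial.map_one, map_X] using this
  · obtain ⟨b, hb⟩ := Ideal.mem_span_singleton'.1 (ha₀ i)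
    rw [Ideal.mem_span_singleton']
    exact ⟨f b, by change _ = f (a₀ i); rw [← hb, map_mul, hfw]⟩
  · rw [hPa]
    simp only [Polynomial.map_add, Polynomial.map_sub, Polynomial.map_pow, map_X,
      Polynomial.map_sum, Polynomial.map_mul, map_C]
  · intro S _ _ z₁ z₂
    have h1 := exists_poly_add hw0 P₀ hP₀
    let g : MvPolynomial (Fin 2) R →+* S :=
      MvPolynomial.eval₂Hom ((algebraMap A S).comp f) ![z₁, z₂]
    have hgC : ∀ r : R, g (algebraMap R (MvPolynomial (Fin 2) R) r) = algebraMap A S (f r) :=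
      fun r => by simp [g, MvPolynomial.algebraMap_eq]
    have hg : ∀ x : MvPolynomial (Fin 2) R, g (aeval x P₀) = aeval (g x) (P₀.map f) := by
      intro x
      rw [aeval_def, aeval_def, Polynomial.hom_eval₂, eval₂_map]
      congr 1
      exact RingHom.ext fun r => hgC r
    have hg0 : g (MvPolynomial.X 0) = z₁ := by simp [g]
    have hg1 : g (MvPolynomial.X 1) = z₂ := by simp [g]
    have h2 := congrArg g h1
    simp only [map_add, map_mul, hg, hgC, hg0, hg1, hfw, map_pow] at h2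
    simpa only [map_pow] using h2

end K361.KummerAS
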