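import Mathlib

/-!
# The local rings of a finite domain over a discrete valuation ring are principal localizations
-/

set_option autoImplicit false
universe u

open IsLocalRing

namespace K361.LocAway

/-- If `B` is finite over the local ring `A`, a maximal ideal `m` of `B` is avoided by an element lying
in all other maximal ideals. -/
theorem exists_mem_of_ne {A B : Type*} [CommRing A] [IsLocalRing A] [CommRing B] [Algebra A B]
    [Module.Finite A B] (m : Ideal B) [m.IsMaximal] :
    ∃ h : B, h ∉ m ∧ ∀ n : Ideal B, n.IsMaximal → n ≠ m → h ∈ n := by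
  classical
  have hfin : (Ideal.primesOver (maximalIdeal A) B).Finite :=
    Algebra.QuasiFinite.finite_primesOver _
  let s : Finset (Ideal B) := hfin.toFinset.erase m
  have hs : ¬ s.inf id ≤ m := by
    intro hle
    obtain ⟨n, hn, hnm⟩ := (Ideal.IsPrime.inf_le' (hp := inferInstance)).mp hle
    have h1 := Finset.mem_erase.mp hn
    have h2 : n ∈ Ideal.primesOver (maximalIdeal A) B := hfin.mem_toFinset.mp h1.2
    have h3 : n.IsPrime := h2.1
    have h4 : n.LiesOver (maximalIdeal A) := h2.2
    have h5 : n.IsMaximal := Ideal.IsMaximal.of_liesOver_isMaximal n (maximalIdeal A)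
    exact h1.1 (h5.eq_of_le (Ideal.IsPrime.ne_top inferInstance) hnm)
  obtain ⟨h, hh, hhm⟩ := SetLike.not_le_iff_exists.mp hs
  refine ⟨h, hhm, fun n hn hne => ?_⟩
  have h1 : n.under A = maximalIdeal A :=
    eq_maximalIdeal (Ideal.IsMaximal.under A n)
  have h2 : n ∈ s := by
    refine Finset.mem_erase.mpr ⟨hne, hfin.mem_toFinset.mpr ⟨inferInstance, ⟨h1.symm⟩⟩⟩
  exact (Finset.inf_le (f := id) h2) hh

/-- The local ring of a finite domain over a discrete valuation ring at a maximal ideal is of finite
presentation. -/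
theorem isLocalization {A B : Type*} [CommRing A] [IsLocalRing A] [CommRing B] [IsDomain B]
    [Ring.DimensionLEOne B] [Algebra A B] [Module.Finite A B] (m : Ideal B) [m.IsMaximal]
    (hm : m ≠ ⊥) : ∃ h : B, h ∉ m ∧ ∀ (S : Type*) [CommRing S] [Algebra B S],
      IsLocalization.Away h S ↔ IsLocalization.AtPrime S m := by
  obtain ⟨h, hhm, hh⟩ := exists_mem_of_ne (A := A) m
  refine ⟨h, hhm, fun S _ _ => ?_⟩
  refine IsLocalization.iff_of_le_of_exists_dvd _ _ ?_ ?_
  · rw [Submonoid.powers_le]
    exact hhm
  · intro n hn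
    have hnm : n ∉ m := hn
    have h1 : h ∈ (Ideal.span {n}).radical := by
      rw [Ideal.radical_eq_sInf, Submodule.mem_sInf]
      rintro p ⟨hp, hpp⟩
      have hnp : n ∈ p := hp (Ideal.mem_span_singleton_self n)
      have hp0 : p ≠ ⊥ := by
        rintro rfl
        rw [Ideal.mem_bot] at hnp
        exact hnm (hnp ▸ m.zero_mem)
      have hpm : Ideal.IsMaximal p := Ideal.IsPrime.isMaximal hpp hp0
      refine hh p hpm ?_
      rintro rfl
      exact hnm hnp
    obtain ⟨k, hk⟩ := h1
    exact ⟨h ^ k, ⟨k, rfl⟩, Ideal.mem_span_singleton.mp hk⟩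

theorem finitePresentation {A B : Type*} [CommRing A] [IsLocalRing A] [IsNoetherianRing A]
    [CommRing B] [IsDomain B] [Ring.DimensionLEOne B] [Algebra A B] [Module.Finite A B]
    (m : Ideal B) [m.IsMaximal] (hm : m ≠ ⊥) (S : Type*) [CommRing S] [Algebra B S] [Algebra A S]
    [IsScalarTower A B S] [IsLocalization.AtPrime S m] : Algebra.FinitePresentation A S := by
  obtain ⟨h, _, hh⟩ := isLocalization (A := A) m hm
  have h1 : IsLocalization.Away h S := (hh S).mpr inferInstance
  have h2 : Algebra.FinitePresentation B S := IsLocalization.Away.finitePresentation h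
  have h3 : Algebra.FinitePresentation A B := Algebra.FinitePresentation.of_finiteType.mp inferInstance
  exact Algebra.FinitePresentation.trans A B S

end K361.LocAway
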