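import Mathlib


/-!
# `e f ≤ [L : K]` for an extension of discrete valuation rings
-/

set_option autoImplicit false
universe u

open IsLocalRing

namespace K361.RamEF

section

variable {A B : Type*} [CommRing A] [IsDomain A] [IsDiscreteValuationRing A] [CommRing B]
  [IsDomain B] [IsDiscreteValuationRing B] [Algebra A B] [IsLocalHom (algebraMap A B)]

/-- One step: a relation `∑ g i j b i ρ ^ j = 0` with `b i` linearly independent modulo the
maximal ideals and `j < e` has all coefficients divisible by the uniformizer. -/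
theorem dvd_coeff {π : A} (hπ : Irreducible π) {ρ : B} (hρ : Irreducible ρ) {e : ℕ}
    (hle : ρ ^ e ∣ algebraMap A B π) {ι : Type*} (b : ι → B)
    (hb : LinearIndependent (ResidueField A) (fun i => residue B (b i)))
    (s : Finset ι) (g : ι → ℕ → A)
    (hg : ∑ j ∈ Finset.range e, (∑ i ∈ s, algebraMap A B (g i j) * b i) * ρ ^ j = 0) :
    ∀ j < e, ∀ i ∈ s, π ∣ g i j := by
  intro j
  induction j using Nat.strong_induction_on with
  | _ j ih =>
    intro hj
    have hlow : ρ ^ (j + 1) ∣ ∑ k ∈ Finset.range j,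
        (∑ i ∈ s, algebraMap A B (g i k) * b i) * ρ ^ k := by
      refine Finset.dvd_sum fun k hk => Dvd.dvd.mul_right (Finset.dvd_sum fun i hi => ?_) _
      refine Dvd.dvd.mul_right ?_ _
      have h1 := ih k (Finset.mem_range.mp hk) ((Finset.mem_range.mp hk).trans hj) i hi
      exact ((pow_dvd_pow ρ hj).trans hle).trans (map_dvd (algebraMap A B) h1)
    have hhigh : ρ ^ (j + 1) ∣ ∑ k ∈ Finset.Ico (j + 1) e,
        (∑ i ∈ s, algebraMap A B (g i k) * b i) * ρ ^ k := by
      refine Finset.dvd_sum fun k hk => Dvd.dvd.mul_left ?_ _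
      exact pow_dvd_pow ρ (Finset.mem_Ico.mp hk).1
    have hsplit : ∑ k ∈ Finset.range e, (∑ i ∈ s, algebraMap A B (g i k) * b i) * ρ ^ k =
        ∑ k ∈ Finset.range j, (∑ i ∈ s, algebraMap A B (g i k) * b i) * ρ ^ k +
        (∑ i ∈ s, algebraMap A B (g i j) * b i) * ρ ^ j +
        ∑ k ∈ Finset.Ico (j + 1) e, (∑ i ∈ s, algebraMap A B (g i k) * b i) * ρ ^ k := by
      rw [← Finset.sum_range_succ, Finset.sum_range_add_sum_Ico _ (Nat.succ_le_of_lt hj)]
    rw [hg] at hsplit
    have hmid : ρ ^ (j + 1) ∣ (∑ i ∈ s, algebraMap A B (g i j) * b i) * ρ ^ j := by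
      have h0 : (∑ i ∈ s, algebraMap A B (g i j) * b i) * ρ ^ j =
          -(∑ k ∈ Finset.range j, (∑ i ∈ s, algebraMap A B (g i k) * b i) * ρ ^ k) -
            ∑ k ∈ Finset.Ico (j + 1) e, (∑ i ∈ s, algebraMap A B (g i k) * b i) * ρ ^ k := by
        linear_combination (-1 : B) * hsplit
      rw [h0]
      exact dvd_sub (dvd_neg.mpr hlow) hhigh
    rw [pow_succ', mul_dvd_mul_iff_right (pow_ne_zero _ hρ.ne_zero)] at hmid
    have hres : ∑ i ∈ s, residue A (g i j) • residue B (b i) = 0 := by
      have h1 : residue B (∑ i ∈ s, algebraMap A B (g i j) * b i) = 0 := by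
        rw [residue_eq_zero_iff, hρ.maximalIdeal_eq, Ideal.mem_span_singleton]
        exact hmid
      rw [map_sum] at h1
      rw [← h1]
      refine Finset.sum_congr rfl fun i _ => ?_
      rw [Algebra.smul_def, map_mul]
      rfl
    intro i hi
    have h2 := linearIndependent_iff'.mp hb s (fun i => residue A (g i j)) hres i hi
    rwa [residue_eq_zero_iff, hπ.maximalIdeal_eq, Ideal.mem_span_singleton] at h2

theorem linearIndependent (hinj : Function.Injective (algebraMap A B)) {π : A}
    (hπ : Irreducible π) {ρ : B} (hρ : Irreducible ρ) {e : ℕ}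
    (hle : ρ ^ e ∣ algebraMap A B π) {ι : Type*} (b : ι → B)
    (hb : LinearIndependent (ResidueField A) (fun i => residue B (b i))) :
    LinearIndependent A (fun x : ι × Fin e => b x.1 * ρ ^ (x.2 : ℕ)) := by
  classical
  -- divisibility by all powers of `π`
  have key : ∀ (n : ℕ) (s : Finset ι) (g : ι → ℕ → A),
      ∑ j ∈ Finset.range e, (∑ i ∈ s, algebraMap A B (g i j) * b i) * ρ ^ j = 0 →
      ∀ j < e, ∀ i ∈ s, π ^ n ∣ g i j := by
    intro n
    induction n with
    | zero => intro s g _ j _ i _; simp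
    | succ n ih =>
      intro s g hg j hj i hi
      have h1 := dvd_coeff hπ hρ hle b hb s g hg
      have h2 : ∃ g' : ι → ℕ → A, ∀ i ∈ s, ∀ j < e, g i j = π * g' i j := by
        refine ⟨fun i j => if h : i ∈ s ∧ j < e then (h1 j h.2 i h.1).choose else 0, ?_⟩
        intro i hi j hj
        have h3 := (h1 j hj i hi).choose_spec
        simpa only [dif_pos (show i ∈ s ∧ j < e from ⟨hi, hj⟩)] using h3
      obtain ⟨g', hg'⟩ := h2
      have h3 : ∑ j ∈ Finset.range e, (∑ i ∈ s, algebraMap A B (g' i j) * b i) * ρ ^ j = 0 := by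
        have h4 : algebraMap A B π *
            ∑ j ∈ Finset.range e, (∑ i ∈ s, algebraMap A B (g' i j) * b i) * ρ ^ j = 0 := by
          rw [← hg, Finset.mul_sum]
          refine Finset.sum_congr rfl fun j hj => ?_
          rw [← mul_assoc, Finset.mul_sum]
          congr 1
          refine Finset.sum_congr rfl fun i hi => ?_
          rw [hg' i hi j (Finset.mem_range.mp hj), map_mul]
          ring
        refine (mul_eq_zero.mp h4).resolve_left ?_
        rw [map_eq_zero_iff _ hinj]
        exact hπ.ne_zero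
      rw [hg' i hi j hj, pow_succ']
      exact mul_dvd_mul_left _ (ih s g' h3 j hj i hi)
  have key2 : ∀ (s : Finset ι) (g : ι → ℕ → A),
      ∑ j ∈ Finset.range e, (∑ i ∈ s, algebraMap A B (g i j) * b i) * ρ ^ j = 0 →
      ∀ j < e, ∀ i ∈ s, g i j = 0 := by
    intro s g hg j hj i hi
    by_contra hne
    obtain ⟨n, u, hu⟩ := IsDiscreteValuationRing.eq_unit_mul_pow_irreducible hne hπ
    have h1 := key (n + 1) s g hg j hj i hi
    rw [hu, pow_succ', IsUnit.dvd_mul_left u.isUnit] at h1
    have h2 : π ∣ 1 := by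
      have h3 : π * π ^ n ∣ 1 * π ^ n := by rwa [one_mul]
      exact (mul_dvd_mul_iff_right (pow_ne_zero _ hπ.ne_zero)).mp h3
    exact hπ.not_isUnit (isUnit_of_dvd_one h2)
  rw [linearIndependent_iff']
  intro t g hg ⟨i₀, j₀⟩ hij
  -- extend `g` by zero
  let s : Finset ι := t.image Prod.fst
  let g' : ι → ℕ → A := fun i j => if h : j < e then (if (i, ⟨j, h⟩) ∈ t then g (i, ⟨j, h⟩) else 0)
    else 0
  have h1 : ∑ j ∈ Finset.range e, (∑ i ∈ s, algebraMap A B (g' i j) * b i) * ρ ^ j = 0 := by
    rw [Finset.sum_range, ← hg]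
    have h2 : ∑ x ∈ t, g x • (b x.1 * ρ ^ (x.2 : ℕ)) =
        ∑ x ∈ s ×ˢ (Finset.univ : Finset (Fin e)), algebraMap A B (g' x.1 x.2) *
          (b x.1 * ρ ^ (x.2 : ℕ)) := by
      refine Finset.sum_subset_zero_on_sdiff (fun x hx => ?_) (fun x hx => ?_) (fun x hx => ?_)
      · simp only [Finset.mem_product, Finset.mem_univ, and_true]
        exact Finset.mem_image_of_mem _ hx
      · have h3 : g' x.1 x.2 = 0 := by
          simp only [g', dif_pos x.2.2]
          rw [if_neg]
          exact (Finset.mem_sdiff.mp hx).2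
        rw [h3, map_zero, zero_mul]
      · have h3 : g' x.1 x.2 = g x := by
          simp only [g', dif_pos x.2.2]
          rw [if_pos]
          exact hx
        rw [h3, Algebra.smul_def]
    rw [h2, Finset.sum_product_right]
    refine Finset.sum_congr rfl fun j _ => ?_
    rw [Finset.sum_mul]
    refine Finset.sum_congr rfl fun i _ => ?_
    ring
  have h2 := key2 s g' h1 j₀ j₀.2 i₀ (Finset.mem_image_of_mem _ hij)
  simpa [g', dif_pos j₀.2, if_pos hij] using h2

end

end K361.RamEF
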