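import Groth.Agent.EtAlg.K361.RefN17a
import Groth.Agent.EtAlg.K416.RefN2
import Groth.Agent.EtAlg.K235.RefN15
import Groth.Agent.EtAlg.K235.RefN16

/-!
# Node N17 of the refutation of S7162: every admissible pair has a weak solution
-/

set_option autoImplicit false

namespace K361.RefN17

open Groth.Agent.EtAlg.K405 Groth.Agent.Etalg.EppFrame Groth.Agent.Etalg.EppVal Polynomial IsLocalRing
open K361.RefN17a (K_le_LL)

variable {Ω : Type} [NormedField Ω] [IsUltrametricDist Ω] [IsAlgClosed Ω] [CharP Ω 2] (C : Ctx Ω)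

set_option linter.unusedVariables false in
theorem N17_exists_weak {A' B' K' L' : Type} [CommRing A'] [IsDomain A'] [IsDiscreteValuationRing A']
    [CommRing B'] [IsDomain B'] [IsDiscreteValuationRing B'] [Field K'] [Field L'] [Algebra A' K']
    [IsFractionRing A' K'] [Algebra B' L'] [IsFractionRing B' L'] [Algebra K' L']
    (iL : C.LL →+* L') (iK : C.K →+* K')
    (hcomm : ∀ x : C.K, algebraMap K' L' (iK x) = iL (Subfield.inclusion (K_le_LL C) x))
    (hsepL : ∀ x : L', letI := iL.toAlgebra; IsSeparable C.LL x)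
    (hB : ∀ x : C.LL, ‖(x : Ω)‖ ≤ 1 → ∃ b : B', algebraMap B' L' b = iL x)
    (ht : ∃ b ∈ maximalIdeal B', algebraMap B' L' b = iL ⟨C.t, K_le_LL C C.t_mem⟩)
    (hA : ∀ x : C.K, ‖(x : Ω)‖ ≤ 1 → ∃ a : A', algebraMap A' K' a = iK x)
    (hAB : ∀ a : A', ∃ b : B', algebraMap B' L' b = algebraMap K' L' (algebraMap A' K' a))
    (hABm : ∀ a ∈ maximalIdeal A', ∃ b ∈ maximalIdeal B', algebraMap B' L' b = algebraMap K' L' (algebraMap A' K' a))
    (hsc : IsSepClosed (ResidueField A')) :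
    ∃ (K₁ : Type) (_ : Field K₁) (_ : Algebra K' K₁), FiniteDimensional K' K₁ ∧
      EtRam.IsWeakSolution B' K' L' K₁ :=
  K361.RefN17a.main C (fun _ hx => Groth.Agent.EtAlg.K416.RefN2.N2b_monic C hx)
    (fun _ _ h1 h2 h3 h4 _ h5 h6 => Groth.Agent.EtAlg.K235.RefN15.N15_normal C h1 h2 h3 h4 h5 h6)
    (fun _ h1 h2 => Groth.Agent.EtAlg.K235.RefN16.N16_FF_le C h1 h2)
    iL iK hcomm hsepL hB hA hAB hABm hsc

end K361.RefN17
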