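import Groth.Agent.EtAlg.K405.Ctx
import Groth.Agent.Etalg.EppWeak

/-!
# Refutation of S7162, node N17: every admissible pair has a weak solution

The nodes N2b, N15, N16 enter as hypotheses of `main`.
-/

set_option autoImplicit false

namespace K361.RefN17a

open Groth.Agent.EtAlg.K405 Groth.Agent.Etalg.EppFrame Groth.Agent.Etalg.EppVal Polynomial IsLocalRing

variable {Ω : Type} [NormedField Ω]

section DVR

variable {B' L' : Type} [CommRing B'] [IsDomain B'] [IsDiscreteValuationRing B'] [Field L'] [Algebra B' L']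
  [IsFractionRing B' L'] (j : L' →+* Ω)

/-- if elements of norm at most one are integral over `B'`, then `B'` is the unit ball of `L'` -/
theorem norm_le_one_iff (h1 : ∀ x : L', ‖j x‖ ≤ 1 → IsIntegral B' x) (x : L') :
    ‖j x‖ ≤ 1 ↔ x ∈ (algebraMap B' L').range := by
  have h2 : ∀ x : L', ‖j x‖ ≤ 1 → x ∈ (algebraMap B' L').range := fun x hx =>
    IsIntegrallyClosed.isIntegral_iff.mp (h1 x hx)
  refine ⟨h2 x, ?_⟩
  rintro ⟨b, rfl⟩
  by_contra hcon
  rw [not_le] at hcon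
  have hb0 : algebraMap B' L' b ≠ 0 := by
    intro h0
    rw [h0, map_zero, norm_zero] at hcon
    exact absurd hcon (by norm_num)
  obtain ⟨c, hc⟩ := h2 (algebraMap B' L' b)⁻¹ (by
    rw [map_inv₀, norm_inv]
    exact inv_le_one_of_one_le₀ hcon.le)
  have hbc : b * c = 1 := by
    apply IsFractionRing.injective B' L'
    rw [map_mul, hc, map_one, mul_inv_cancel₀ hb0]
  have hc1 : ‖j (algebraMap B' L' c)‖ < 1 := by
    rw [hc, map_inv₀, norm_inv]
    exact inv_lt_one_of_one_lt₀ hcon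
  obtain ⟨ϖ, hϖ⟩ := IsDiscreteValuationRing.exists_irreducible B'
  have hϖ0 : algebraMap B' L' ϖ ≠ 0 := by
    rw [Ne, IsFractionRing.to_map_eq_zero_iff]
    exact hϖ.ne_zero
  have hpos : 0 < ‖j (algebraMap B' L' ϖ)‖ := by
    rw [norm_pos_iff, Ne, map_eq_zero]
    exact hϖ0
  obtain ⟨n, hn⟩ := exists_pow_lt_of_lt_one hpos hc1
  obtain ⟨d, hd⟩ := h2 (algebraMap B' L' c ^ n / algebraMap B' L' ϖ) (by
    rw [map_div₀, map_pow, norm_div, norm_pow, div_le_one hpos]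
    exact hn.le)
  have hcn : c ^ n = ϖ * d := by
    apply IsFractionRing.injective B' L'
    rw [map_mul, hd, map_pow, mul_div_cancel₀ _ hϖ0]
  have hcu : IsUnit (c ^ n) := (IsUnit.of_mul_eq_one b (by rw [mul_comm]; exact hbc)).pow n
  rw [hcn] at hcu
  exact hϖ.not_isUnit (isUnit_of_mul_isUnit_left hcu)

variable (hj : ∀ x : L', ‖j x‖ ≤ 1 ↔ x ∈ (algebraMap B' L').range)

include hj

theorem norm_lt_one {b : B'} (hb : b ∈ maximalIdeal B') : ‖j (algebraMap B' L' b)‖ < 1 := by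
  by_contra hcon
  rw [not_lt] at hcon
  have hb0 : algebraMap B' L' b ≠ 0 := by
    intro h0
    rw [h0, map_zero, norm_zero] at hcon
    exact absurd hcon (by norm_num)
  obtain ⟨c, hc⟩ := (hj (algebraMap B' L' b)⁻¹).mp (by
    rw [map_inv₀, norm_inv]
    exact inv_le_one_of_one_le₀ hcon)
  have h6 : b * c = 1 := by
    apply IsFractionRing.injective B' L'
    rw [map_mul, hc, map_one, mul_inv_cancel₀ hb0]
  exact hb (IsUnit.of_mul_eq_one _ h6)

omit [IsDomain B'] [IsDiscreteValuationRing B'] [IsFractionRing B' L'] in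
theorem norm_unit (u : B'ˣ) : ‖j (algebraMap B' L' u)‖ = 1 := by
  have h1 : ‖j (algebraMap B' L' (u : B'))‖ ≤ 1 := (hj _).mpr ⟨_, rfl⟩
  have h2 : ‖j (algebraMap B' L' ((u⁻¹ : B'ˣ) : B'))‖ ≤ 1 := (hj _).mpr ⟨_, rfl⟩
  have h3 : ‖j (algebraMap B' L' (u : B'))‖ * ‖j (algebraMap B' L' ((u⁻¹ : B'ˣ) : B'))‖ = 1 := by
    rw [← norm_mul, ← map_mul, ← map_mul, Units.mul_inv, map_one, map_one, norm_one]
  refine le_antisymm h1 ?_
  calc (1 : ℝ) = _ := h3.symm
    _ ≤ ‖j (algebraMap B' L' (u : B'))‖ * 1 := by gcongr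
    _ = _ := mul_one _

theorem disc_fieldRange : ∃ ϖ ∈ j.fieldRange, Disc j.fieldRange ϖ := by
  obtain ⟨ϖ, hϖ⟩ := IsDiscreteValuationRing.exists_irreducible B'
  have hϖ0 : algebraMap B' L' ϖ ≠ 0 := by
    rw [Ne, IsFractionRing.to_map_eq_zero_iff]
    exact hϖ.ne_zero
  have hpos : 0 < ‖j (algebraMap B' L' ϖ)‖ := by
    rw [norm_pos_iff, Ne, map_eq_zero]
    exact hϖ0
  have key : ∀ b : B', b ≠ 0 → ∃ n : ℕ, ‖j (algebraMap B' L' b)‖ = ‖j (algebraMap B' L' ϖ)‖ ^ n := by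
    intro b hb
    obtain ⟨n, u, rfl⟩ := IsDiscreteValuationRing.eq_unit_mul_pow_irreducible hb hϖ
    refine ⟨n, ?_⟩
    rw [map_mul, map_mul, norm_mul, norm_unit j hj, one_mul, map_pow, map_pow, norm_pow]
  refine ⟨j (algebraMap B' L' ϖ), ⟨_, rfl⟩, hpos, norm_lt_one j hj ?_, ?_⟩
  · rw [mem_maximalIdeal]
    exact hϖ.not_isUnit
  · rintro _ ⟨x, rfl⟩ hx
    have hx0 : x ≠ 0 := fun h => hx (by rw [h, map_zero])
    obtain ⟨a, b, hb, rfl⟩ := IsFractionRing.div_surjective (A := B') x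
    have hb0 : b ≠ 0 := nonZeroDivisors.ne_zero hb
    have ha0 : a ≠ 0 := by
      rintro rfl
      exact hx0 (by rw [map_zero, zero_div])
    obtain ⟨m, hm⟩ := key a ha0
    obtain ⟨k, hk⟩ := key b hb0
    refine ⟨(m : ℤ) - k, ?_⟩
    rw [map_div₀, norm_div, hm, hk, zpow_sub₀ hpos.ne', zpow_natCast, zpow_natCast]

end DVR

section Residue

variable [IsUltrametricDist Ω]

/-- separable elements over a coefficient field are congruent to elements of a local ring with separably closed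
residue field -/
theorem exists_close {A' : Type} [CommRing A'] [IsLocalRing A'] (hsc : IsSepClosed (ResidueField A'))
    (J : A' →+* Ω) (hJ1 : ∀ a, ‖J a‖ ≤ 1) (hJ2 : ∀ a ∈ maximalIdeal A', ‖J a‖ < 1) (k0 : Subfield Ω)
    (ρ : k0 →+* A') (hρ : ∀ x, J (ρ x) = x) {θ : Ω} (hθ : IsSeparable k0 θ) : ∃ a : A', ‖θ - J a‖ < 1 := by
  let J' : A' →+* VO Ω := J.codRestrict (VO Ω) hJ1
  have hJ' : ∀ a, ((J' a : VO Ω) : Ω) = J a := fun a => rfl
  have hloc : IsLocalHom J' := by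
    refine ⟨fun a ha => ?_⟩
    by_contra hcon
    have h1 : ‖J a‖ < 1 := hJ2 a hcon
    have h2 : J' a ∈ maximalIdeal (VO Ω) := by
      rw [(VO Ω).valuation_lt_one_iff, valuation_lt_one_iff]
      exact h1
    exact h2 ha
  let κ : k0 →+* VO Ω := J'.comp ρ
  have hκ : (VO Ω).subtype.comp κ = k0.subtype := RingHom.ext fun x => hρ x
  have hint : IsIntegral k0 θ := hθ.isIntegral
  let f := minpoly k0 θ
  have hf0 : eval₂ k0.subtype θ f = 0 := minpoly.aeval k0 θ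
  have hθV : θ ∈ VO Ω := by
    have h1 : IsIntegral (VO Ω) θ := by
      refine ⟨f.map κ, (minpoly.monic hint).map κ, ?_⟩
      rw [eval₂_map]
      have h2 : (algebraMap (VO Ω) Ω).comp κ = k0.subtype := hκ
      rw [h2]
      exact hf0
    obtain ⟨y, hy⟩ := IsIntegrallyClosed.isIntegral_iff.mp h1
    rw [← hy]
    exact y.2
  let θ' : VO Ω := ⟨θ, hθV⟩
  have hf1 : eval₂ κ θ' f = 0 := by
    apply (VO Ω).subtype_injective
    rw [hom_eval₂, hκ, map_zero]
    exact hf0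
  let g : (ResidueField A')[X] := f.map ((residue A').comp ρ)
  have hgs : g.Splits := hsc.splits_of_separable g (Separable.map hθ)
  have hg0 : g ≠ 0 := ((minpoly.monic hint).map _).ne_zero
  have hroot : (g.map (ResidueField.map J')).IsRoot (residue (VO Ω) θ') := by
    rw [IsRoot.def, eval_map, eval₂_map]
    have h1 : (ResidueField.map J').comp ((residue A').comp ρ) = (residue (VO Ω)).comp κ := rfl
    rw [h1, ← hom_eval₂, hf1, map_zero]
  obtain ⟨α, hα⟩ := hgs.mem_range_of_isRoot hg0 hroot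
  obtain ⟨a, rfl⟩ := residue_surjective α
  refine ⟨a, ?_⟩
  rw [ResidueField.map_residue] at hα
  have h2 : θ' - J' a ∈ maximalIdeal (VO Ω) := by
    rw [← residue_eq_zero_iff, map_sub, hα, sub_self]
  rw [(VO Ω).valuation_lt_one_iff, valuation_lt_one_iff] at h2
  exact h2

end Residue

theorem K_le_LL (C : Ctx Ω) : C.K ≤ C.LL := (C.K_le_FF.trans (C.FF_le_MM _)).trans C.MM_le_LL

/-- node N17, with the nodes N2b, N15, N16 as hypotheses -/
theorem main [IsUltrametricDist Ω] [IsAlgClosed Ω] (C : Ctx Ω)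
    (N2b : ∀ x : Ω, ‖x‖ ≤ 1 →
      ∃ f : Polynomial Ω, f.Monic ∧ (∀ i, f.coeff i ∈ C.K ∧ ‖f.coeff i‖ ≤ 1) ∧ f.eval x = 0)
    (N15 : ∀ K' L' : Subfield Ω, C.FF ≤ K' → K' ≤ L' → C.LL ≤ L' → (∀ x ∈ L', IsSeparable C.LL x) →
      ∀ ϖ ∈ L', Disc L' ϖ →
        ∃ K₁ : Subfield Ω, FinExt K' K₁ ∧ NormalIn K' K₁ ∧ NormLe K₁ (L' ⊔ K₁))
    (N16 : ∀ K' : Subfield Ω, C.K ≤ K' → (∀ θ ∈ C.kk, ∃ a ∈ K', ‖θ - a‖ < 1) → C.FF ≤ K')
    {A' B' K' L' : Type} [CommRing A'] [IsDomain A'] [IsDiscreteValuationRing A']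
    [CommRing B'] [IsDomain B'] [IsDiscreteValuationRing B'] [Field K'] [Field L'] [Algebra A' K']
    [IsFractionRing A' K'] [Algebra B' L'] [IsFractionRing B' L'] [Algebra K' L']
    (iL : C.LL →+* L') (iK : C.K →+* K')
    (hcomm : ∀ x : C.K, algebraMap K' L' (iK x) = iL (Subfield.inclusion (K_le_LL C) x))
    (hsepL : ∀ x : L', letI := iL.toAlgebra; IsSeparable C.LL x)
    (hB : ∀ x : C.LL, ‖(x : Ω)‖ ≤ 1 → ∃ b : B', algebraMap B' L' b = iL x)
    (hA : ∀ x : C.K, ‖(x : Ω)‖ ≤ 1 → ∃ a : A', algebraMap A' K' a = iK x)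
    (hAB : ∀ a : A', ∃ b : B', algebraMap B' L' b = algebraMap K' L' (algebraMap A' K' a))
    (hABm : ∀ a ∈ maximalIdeal A', ∃ b ∈ maximalIdeal B',
      algebraMap B' L' b = algebraMap K' L' (algebraMap A' K' a))
    (hsc : IsSepClosed (ResidueField A')) :
    ∃ (K₁ : Type) (_ : Field K₁) (_ : Algebra K' K₁), FiniteDimensional K' K₁ ∧
      EtRam.IsWeakSolution B' K' L' K₁ := by
  let _ : Algebra C.LL L' := iL.toAlgebra
  have halg : Algebra.IsAlgebraic C.LL L' := ⟨fun x => (hsepL x).isIntegral.isAlgebraic⟩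
  let j : L' →ₐ[C.LL] Ω := IsAlgClosed.lift
  have hjL : ∀ x : C.LL, j (iL x) = x := fun x => j.commutes x
  have h1 : ∀ x : L', ‖j.toRingHom x‖ ≤ 1 → IsIntegral B' x := by
    intro x hx
    obtain ⟨f, hfm, hfc, hf0⟩ := N2b (j x) hx
    obtain ⟨g, hg, -, hgm⟩ := lifts_and_degree_eq_and_monic
      (f := j.toRingHom.comp (algebraMap B' L')) (p := f) (by
        rw [lifts_iff_coeff_lifts]
        intro i
        obtain ⟨b, hb⟩ := hB ⟨f.coeff i, K_le_LL C (hfc i).1⟩ (hfc i).2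
        refine ⟨b, ?_⟩
        show j (algebraMap B' L' b) = _
        rw [hb, hjL]) hfm
    refine ⟨g, hgm, ?_⟩
    apply j.toRingHom.injective
    rw [hom_eval₂, ← eval_map, hg, map_zero]
    exact hf0
  have hj := norm_le_one_iff j.toRingHom h1
  let q : K' →+* Ω := j.toRingHom.comp (algebraMap K' L')
  let J : A' →+* Ω := q.comp (algebraMap A' K')
  have hJ1 : ∀ a, ‖J a‖ ≤ 1 := by
    intro a
    obtain ⟨b, hb⟩ := hAB a
    show ‖j.toRingHom (algebraMap K' L' (algebraMap A' K' a))‖ ≤ 1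
    rw [← hb]
    exact (hj _).mpr ⟨b, rfl⟩
  have hJ2 : ∀ a ∈ maximalIdeal A', ‖J a‖ < 1 := by
    intro a ha
    obtain ⟨b, hbm, hb⟩ := hABm a ha
    show ‖j.toRingHom (algebraMap K' L' (algebraMap A' K' a))‖ < 1
    rw [← hb]
    exact norm_lt_one j.toRingHom hj hbm
  have hqK : ∀ x : C.K, q (iK x) = x := by
    intro x
    show j (algebraMap K' L' (iK x)) = x
    rw [hcomm, hjL]
    rfl
  have hex : ∀ x : C.k0, ∃ a : A', algebraMap A' K' a = iK (Subfield.inclusion C.k0_le x) := by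
    intro x
    apply hA
    show ‖(x : Ω)‖ ≤ 1
    by_cases hx : (x : Ω) = 0
    · rw [hx, norm_zero]
      exact zero_le_one
    · exact (C.k0_norm x x.2 hx).le
  choose ρ0 hρ0 using hex
  have hinj : Function.Injective (algebraMap A' K') := IsFractionRing.injective A' K'
  let ρ : C.k0 →+* A' :=
    { toFun := ρ0
      map_one' := hinj (by rw [hρ0, map_one, map_one, map_one])
      map_mul' := fun x y => hinj (by rw [hρ0, map_mul, map_mul, map_mul, hρ0, hρ0])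
      map_zero' := hinj (by rw [hρ0, map_zero, map_zero, map_zero])
      map_add' := fun x y => hinj (by rw [hρ0, map_add, map_add, map_add, hρ0, hρ0]) }
  have hρ : ∀ x, J (ρ x) = x := by
    intro x
    show q (algebraMap A' K' (ρ0 x)) = x
    rw [hρ0, hqK]
    rfl
  have hK : C.K ≤ q.fieldRange := fun x hx => ⟨iK ⟨x, hx⟩, hqK ⟨x, hx⟩⟩
  have hFF : C.FF ≤ q.fieldRange := by
    refine N16 _ hK fun θ hθ => ?_
    obtain ⟨a, ha⟩ := exists_close hsc J hJ1 hJ2 C.k0 ρ hρ (C.mem_kk.mp hθ)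
    exact ⟨J a, ⟨algebraMap A' K' a, rfl⟩, ha⟩
  have hqj : q.fieldRange ≤ j.toRingHom.fieldRange := by
    rintro _ ⟨x, rfl⟩
    exact ⟨algebraMap K' L' x, rfl⟩
  have hLL : C.LL ≤ j.toRingHom.fieldRange := fun x hx => ⟨iL ⟨x, hx⟩, hjL ⟨x, hx⟩⟩
  have hsep : ∀ x ∈ j.toRingHom.fieldRange, IsSeparable C.LL x := by
    rintro _ ⟨x, rfl⟩
    exact (hsepL x).map j j.toRingHom.injective
  obtain ⟨ϖ, hϖ, hd⟩ := disc_fieldRange j.toRingHom hj
  obtain ⟨K₁, k1, k2, k3⟩ := N15 _ _ hFF hqj hLL hsep ϖ hϖ hd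
  obtain ⟨K₂, i1, i2, i3, h⟩ := Groth.Agent.Etalg.EppWeak.isWeakSolution_of_normal (B := B') (K := K') (L := L')
    j.toRingHom hj K₁ k1 k2 k3
  exact ⟨K₂, i1, i2, i3, h⟩

end K361.RefN17a
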