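import Groth.Agent.Etalg.Milnor3
import Groth.Agent.EtAlg.K364.MilnorPair

/-!
# Relative Milnor squares

`R → D`, `R → C'` with `R → D ×_C C'` only surjective.
-/

set_option autoImplicit false
set_option linter.unusedSectionVars false
universe u

namespace K361.RelMilnor

open TensorProduct Groth.Agent.Etalg

section Fib

variable (D C' C : Type u) [CommRing D] [CommRing C'] [CommRing C] [Algebra D C] [Algebra C' C]

/-- the fibre product ring -/
def Fib : Type u := ↥(RingHom.eqLocus ((algebraMap D C).comp (RingHom.fst D C'))
  ((algebraMap C' C).comp (RingHom.snd D C')))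

noncomputable instance : CommRing (Fib D C' C) := inferInstanceAs
  (CommRing ↥(RingHom.eqLocus ((algebraMap D C).comp (RingHom.fst D C'))
    ((algebraMap C' C).comp (RingHom.snd D C'))))

/-- first projection -/
noncomputable def Fib.p : Fib D C' C →+* D := (RingHom.fst D C').comp
  (RingHom.eqLocus ((algebraMap D C).comp (RingHom.fst D C'))
    ((algebraMap C' C).comp (RingHom.snd D C'))).subtype

/-- second projection -/
noncomputable def Fib.q : Fib D C' C →+* C' := (RingHom.snd D C').comp
  (RingHom.eqLocus ((algebraMap D C).comp (RingHom.fst D C'))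
    ((algebraMap C' C).comp (RingHom.snd D C'))).subtype

noncomputable instance : Algebra (Fib D C' C) D := (Fib.p D C' C).toAlgebra
noncomputable instance : Algebra (Fib D C' C) C' := (Fib.q D C' C).toAlgebra
noncomputable instance : Algebra (Fib D C' C) C := ((algebraMap D C).comp (Fib.p D C' C)).toAlgebra

instance : IsScalarTower (Fib D C' C) D C := IsScalarTower.of_algebraMap_eq fun _ => rfl
instance : IsScalarTower (Fib D C' C) C' C := IsScalarTower.of_algebraMap_eq fun x => x.2

theorem isFibreSquare (hs : Function.Surjective (algebraMap C' C)) :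
    EtMil.IsFibreSquare (Fib D C' C) D C' C := by
  refine ⟨hs, fun d c h => ⟨⟨(d, c), h⟩, ⟨rfl, rfl⟩, ?_⟩⟩
  rintro ⟨⟨d', c'⟩, h'⟩ ⟨rfl, rfl⟩
  rfl

variable {D C' C}

/-- the map into the fibre product -/
noncomputable def Fib.lift {R : Type u} [CommRing R] (p : R →+* D) (q : R →+* C')
    (h : ∀ r, algebraMap D C (p r) = algebraMap C' C (q r)) : R →+* Fib D C' C :=
  (p.prod q).codRestrict (RingHom.eqLocus ((algebraMap D C).comp (RingHom.fst D C'))
    ((algebraMap C' C).comp (RingHom.snd D C'))) h

end Fib

section Finite

variable (R D C' C : Type u) [CommRing R] [CommRing D] [CommRing C'] [CommRing C] [Algebra D C]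
  [Algebra C' C] [Algebra R D] [Algebra R C'] [Algebra R C] [IsScalarTower R D C]
  [IsScalarTower R C' C]
  {N M' : Type u} [AddCommGroup N] [Module D N] [Module R N] [IsScalarTower R D N]
  [AddCommGroup M'] [Module C' M'] [Module R M'] [IsScalarTower R C' M']

theorem finite_glue (hs : Function.Surjective (algebraMap C' C))
    (hsurj : ∀ (d : D) (c : C'), algebraMap D C d = algebraMap C' C c →
      ∃ r : R, algebraMap R D r = d ∧ algebraMap R C' r = c)
    (φ : C ⊗[D] N ≃ₗ[C] C ⊗[C'] M') [Module.Finite D N] [Module.Finite C' M'] :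
    Module.Finite R ↥(EtMil.glue R φ) := by
  let F := Fib D C' C
  let _ : Module F N := Module.compHom N (algebraMap F D)
  let _ : Module F M' := Module.compHom M' (algebraMap F C')
  have : IsScalarTower F D N := ⟨fun a b x => by
    change (a • b) • x = algebraMap F D a • (b • x)
    rw [Algebra.smul_def, mul_smul]⟩
  have : IsScalarTower F C' M' := ⟨fun a b x => by
    change (a • b) • x = algebraMap F C' a • (b • x)
    rw [Algebra.smul_def, mul_smul]⟩
  have h1 : Module.Finite F ↥(EtMil.glue F φ) :=
    Milnor3.finite_glue (isFibreSquare D C' C hs) φ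
  let π : R →+* F := Fib.lift (algebraMap R D) (algebraMap R C') fun r => by
    rw [← IsScalarTower.algebraMap_apply, ← IsScalarTower.algebraMap_apply]
  have hπ : Function.Surjective π := by
    rintro ⟨⟨d, c⟩, h⟩
    obtain ⟨r, h1, h2⟩ := hsurj d c h
    exact ⟨r, Subtype.ext (Prod.ext h1 h2)⟩
  let _ : Algebra R F := π.toAlgebra
  let _ : Module R ↥(EtMil.glue F φ) := Module.compHom _ π
  have : IsScalarTower R F ↥(EtMil.glue F φ) := ⟨fun a b x => by
    change (a • b) • x = π a • (b • x)
    rw [Algebra.smul_def, mul_smul]; rfl⟩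
  have h2 : Module.Finite R F := Module.Finite.of_surjective (Algebra.linearMap R F) hπ
  have h3 : Module.Finite R ↥(EtMil.glue F φ) := Module.Finite.trans F _
  let e : ↥(EtMil.glue F φ) →ₗ[R] ↥(EtMil.glue R φ) :=
    { toFun := fun x => ⟨x.1, x.2⟩
      map_add' := fun _ _ => rfl
      map_smul' := fun r x => by
        apply Subtype.ext
        apply Prod.ext
        · change algebraMap R D r • x.1.1 = r • x.1.1
          rw [IsScalarTower.algebraMap_smul]
        · change algebraMap R C' r • x.1.2 = r • x.1.2
          rw [IsScalarTower.algebraMap_smul] }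
  exact Module.Finite.of_surjective e fun x => ⟨⟨x.1, x.2⟩, rfl⟩

end Finite

section Relative

variable {B' B A' A : Type u} [CommRing B'] [CommRing B] [CommRing A'] [CommRing A]
    [Algebra B' B] [Algebra B' A'] [Algebra B A] [Algebra A' A] [Algebra B' A]
    [IsScalarTower B' B A] [IsScalarTower B' A' A]
    (hsq : EtMil.IsFibreSquare B' B A' A)
    (D' D C' C : Type u) [CommRing D'] [CommRing D] [CommRing C'] [CommRing C]
    [Algebra B' D'] [Algebra B D] [Algebra A' C'] [Algebra A C]
    [Algebra D' D] [Algebra B' D] [IsScalarTower B' B D] [IsScalarTower B' D' D]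
    [Algebra.IsPushout B' B D' D]
    [Algebra D' C'] [Algebra B' C'] [IsScalarTower B' A' C'] [IsScalarTower B' D' C']
    [Algebra.IsPushout B' A' D' C']
    [Algebra D' C] [Algebra B' C] [IsScalarTower B' A C] [IsScalarTower B' D' C]
    [Algebra.IsPushout B' A D' C]
    [Algebra D C] [IsScalarTower D' D C] [Algebra B C] [IsScalarTower B A C] [IsScalarTower B D C]
    [Algebra C' C] [IsScalarTower D' C' C] [Algebra A' C] [IsScalarTower A' A C]
    [IsScalarTower A' C' C]

include hsq D' in
theorem surjective_C : Function.Surjective (algebraMap C' C) := by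
  intro c
  have hC : IsBaseChange A (IsScalarTower.toAlgHom B' D' C).toLinearMap :=
    Algebra.IsPushout.out
  obtain ⟨t, rfl⟩ := hC.equiv.surjective c
  induction t using TensorProduct.induction_on with
  | zero => exact ⟨0, by simp⟩
  | tmul a d =>
    obtain ⟨a', rfl⟩ := hsq.1 a
    refine ⟨algebraMap A' C' a' * algebraMap D' C' d, ?_⟩
    rw [IsBaseChange.equiv_tmul, map_mul, ← IsScalarTower.algebraMap_apply A' C' C,
      ← IsScalarTower.algebraMap_apply D' C' C, Algebra.smul_def,
      ← IsScalarTower.algebraMap_apply A' A C]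
    rfl
  | add x y hx hy =>
    obtain ⟨x', hx'⟩ := hx
    obtain ⟨y', hy'⟩ := hy
    exact ⟨x' + y', by rw [map_add, map_add, hx', hy']⟩

include hsq in
theorem exists_of_compat (d : D) (c : C') (h : algebraMap D C d = algebraMap C' C c) :
    ∃ r : D', algebraMap D' D r = d ∧ algebraMap D' C' r = c := by
  have hD : IsBaseChange B (IsScalarTower.toAlgHom B' D' D).toLinearMap :=
    Algebra.IsPushout.out
  have hC' : IsBaseChange A' (IsScalarTower.toAlgHom B' D' C').toLinearMap :=
    Algebra.IsPushout.out
  have hC : IsBaseChange A (IsScalarTower.toAlgHom B' D' C).toLinearMap :=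
    Algebra.IsPushout.out
  have h1 : ∀ x : B ⊗[B'] D', hC.equiv ((IsScalarTower.toAlgHom B' B A).toLinearMap.rTensor D' x) =
      algebraMap D C (hD.equiv x) := by
    intro x
    induction x using TensorProduct.induction_on with
    | zero => simp
    | tmul b d =>
      rw [LinearMap.rTensor_tmul, IsBaseChange.equiv_tmul, IsBaseChange.equiv_tmul]
      simp only [AlgHom.toLinearMap_apply, IsScalarTower.coe_toAlgHom']
      rw [Algebra.smul_def, Algebra.smul_def, map_mul, ← IsScalarTower.algebraMap_apply D' D C,
        ← IsScalarTower.algebraMap_apply B D C, ← IsScalarTower.algebraMap_apply B A C]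
    | add x y hx hy => simp only [map_add, hx, hy]
  have h2 : ∀ x : A' ⊗[B'] D', hC.equiv ((IsScalarTower.toAlgHom B' A' A).toLinearMap.rTensor D' x) =
      algebraMap C' C (hC'.equiv x) := by
    intro x
    induction x using TensorProduct.induction_on with
    | zero => simp
    | tmul b d =>
      rw [LinearMap.rTensor_tmul, IsBaseChange.equiv_tmul, IsBaseChange.equiv_tmul]
      simp only [AlgHom.toLinearMap_apply, IsScalarTower.coe_toAlgHom']
      rw [Algebra.smul_def, Algebra.smul_def, map_mul, ← IsScalarTower.algebraMap_apply D' C' C,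
        ← IsScalarTower.algebraMap_apply A' C' C, ← IsScalarTower.algebraMap_apply A' A C]
    | add x y hx hy => simp only [map_add, hx, hy]
  obtain ⟨l, hl1, hl2⟩ := K364.MilnorPair.exists_of_pair D' hsq (hD.equiv.symm d)
    (hC'.equiv.symm c) (by
      apply hC.equiv.injective
      rw [h1, h2, LinearEquiv.apply_symm_apply, LinearEquiv.apply_symm_apply, h])
  refine ⟨l, ?_, ?_⟩
  · have := congrArg hD.equiv hl1
    rw [LinearEquiv.apply_symm_apply, IsBaseChange.equiv_tmul, one_smul] at this
    exact this
  · have := congrArg hC'.equiv hl2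
    rw [LinearEquiv.apply_symm_apply, IsBaseChange.equiv_tmul, one_smul] at this
    exact this

end Relative

end K361.RelMilnor
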