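import Groth.Agent.EtAlg.K361.RelMilnor
import Mathlib.Algebra.Module.FinitePresentation
import Mathlib.RingTheory.Flat.Equalizer

/-!
# Relative Milnor squares: finite presentation
-/

set_option autoImplicit false
set_option linter.unusedSectionVars false
universe u

namespace K361.RelMilnor2

open TensorProduct Groth.Agent.Etalg

section Ker

variable (R₀ S₀ R S : Type u) [CommRing R₀] [CommRing S₀] [CommRing R] [CommRing S]
  [Algebra R₀ S₀] [Algebra R₀ R] [Algebra R₀ S] [Algebra S₀ S] [Algebra R S]
  [IsScalarTower R₀ S₀ S] [IsScalarTower R₀ R S] [Algebra.IsPushout R₀ S₀ R S]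

theorem subsingleton_tensor (Q : Type u) [AddCommGroup Q] [Module R Q] [Module R₀ Q]
    [IsScalarTower R₀ R Q] [h : Subsingleton (S ⊗[R] Q)] : Subsingleton (S₀ ⊗[R₀] Q) :=
  (Algebra.IsPushout.cancelBaseChange R₀ S₀ R S Q).symm.injective.subsingleton

variable {F P : Type u} [AddCommGroup F] [Module R F] [Module R₀ F] [IsScalarTower R₀ R F]
  [AddCommGroup P] [Module R P] [Module R₀ P] [IsScalarTower R₀ R P]

theorem cancel_natural {F' : Type u} [AddCommGroup F'] [Module R F'] [Module R₀ F']
    [IsScalarTower R₀ R F'] (g : F' →ₗ[R] F) (x : S ⊗[R] F') :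
    Algebra.IsPushout.cancelBaseChange R₀ S₀ R S F (g.lTensor S x) =
      (g.restrictScalars R₀).lTensor S₀ (Algebra.IsPushout.cancelBaseChange R₀ S₀ R S F' x) := by
  obtain ⟨y, rfl⟩ := (Algebra.IsPushout.cancelBaseChange R₀ S₀ R S F').symm.surjective x
  rw [LinearEquiv.apply_symm_apply]
  apply (Algebra.IsPushout.cancelBaseChange R₀ S₀ R S F).symm.injective
  rw [LinearEquiv.symm_apply_apply]
  induction y using TensorProduct.induction_on with
  | zero => simp
  | tmul s m => simp
  | add x y hx hy => simp only [map_add, hx, hy]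

include S₀ in
/-- tensoring a kernel, when the target is flat over the small base ring -/
theorem injective_lTensor_ker [Module.Flat R₀ P] (f : F →ₗ[R] P) (hf : Function.Surjective f) :
    Function.Injective ((LinearMap.ker f).subtype.lTensor S) := by
  have h1 : Function.Injective (((LinearMap.ker f).subtype.restrictScalars R₀).lTensor S₀) :=
    LinearMap.lTensor_injective_of_exact_of_flat (f.restrictScalars R₀) hf
      ((LinearMap.ker f).subtype.restrictScalars R₀) (Submodule.injective_subtype _)
      (LinearMap.exact_subtype_ker_map f) S₀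
  intro x y hxy
  apply (Algebra.IsPushout.cancelBaseChange R₀ S₀ R S (LinearMap.ker f)).injective
  apply h1
  rw [← cancel_natural, ← cancel_natural, hxy]

include R₀ S₀ in
theorem finite_tensor_ker [Module.Flat R₀ P] (f : F →ₗ[R] P) (hf : Function.Surjective f)
    [Module.Finite R F] [Module.FinitePresentation S (S ⊗[R] P)] :
    Module.Finite S (S ⊗[R] (LinearMap.ker f)) := by
  have hinj := injective_lTensor_ker R₀ S₀ R S f hf
  have hex : Function.Exact ((LinearMap.ker f).subtype.lTensor S) (f.lTensor S) :=
    lTensor_exact S (LinearMap.exact_subtype_ker_map f) hf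
  have hsurj : Function.Surjective (f.baseChange S) := LinearMap.lTensor_surjective S hf
  have hfg : (LinearMap.ker (f.baseChange S)).FG :=
    Module.FinitePresentation.fg_ker (f.baseChange S) hsurj
  have hfin : Module.Finite S (LinearMap.ker (f.baseChange S)) := Module.Finite.iff_fg.2 hfg
  let e : S ⊗[R] (LinearMap.ker f) →ₗ[S] LinearMap.ker (f.baseChange S) :=
    ((LinearMap.ker f).subtype.baseChange S).codRestrict _ fun x => (hex _).2 ⟨x, rfl⟩
  have he : Function.Bijective e := by
    constructor
    · intro x y hxy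
      exact hinj (congrArg Subtype.val hxy)
    · rintro ⟨y, hy⟩
      obtain ⟨x, hx⟩ := (hex y).1 hy
      exact ⟨x, Subtype.ext hx⟩
  exact Module.Finite.equiv (LinearEquiv.ofBijective e he).symm

end Ker

section Relative

variable {B' B A' A : Type u} [CommRing B'] [CommRing B] [CommRing A'] [CommRing A]
    [Algebra B' B] [Algebra B' A'] [Algebra B A] [Algebra A' A] [Algebra B' A]
    [IsScalarTower B' B A] [IsScalarTower B' A' A]
    (hsq : EtMil.IsFibreSquare B' B A' A)
    (D' D C' C : Type u) [CommRing D'] [CommRing D] [CommRing C'] [CommRing C]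
    [Algebra B' D'] [Algebra B D] [Algebra A' C'] [Algebra A C]
    [Algebra D' D] [Algebra B' D] [IsScalarTower B' B D] [IsScalarTower B' D' D]
    [Algebra.IsPushout B' B D' D]
    [Algebra D' C'] [Algebra B' C'] [IsScalarTower B' A' C'] [IsScalarTower B' D' C']
    [Algebra.IsPushout B' A' D' C']

include hsq in
/-- finiteness over `D'` can be checked after the two base changes -/
theorem finite_of_rel_pair (L : Type u) [AddCommGroup L] [Module D' L] [Module B' L]
    [IsScalarTower B' D' L] [h1 : Module.Finite D (D ⊗[D'] L)]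
    [h2 : Module.Finite C' (C' ⊗[D'] L)] : Module.Finite D' L := by
  classical
  obtain ⟨t1, ht1⟩ := K364.MilnorPair.exists_finset_of_finite (R := D') (L := L) D
  obtain ⟨t2, ht2⟩ := K364.MilnorPair.exists_finset_of_finite (R := D') (L := L) C'
  let K : Submodule D' L := Submodule.span D' ((t1 ∪ t2 : Finset L) : Set L)
  have hB : Subsingleton (D ⊗[D'] (L ⧸ K)) := by
    refine K364.MilnorPair.subsingleton_of_span D K t1 (fun x hx => Submodule.subset_span ?_) ht1
    rw [Finset.coe_union]; exact Or.inl hx
  have hA : Subsingleton (C' ⊗[D'] (L ⧸ K)) := by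
    refine K364.MilnorPair.subsingleton_of_span C' K t2 (fun x hx => Submodule.subset_span ?_) ht2
    rw [Finset.coe_union]; exact Or.inr hx
  have hB' : Subsingleton (B ⊗[B'] (L ⧸ K)) := subsingleton_tensor B' B D' D (L ⧸ K)
  have hA' : Subsingleton (A' ⊗[B'] (L ⧸ K)) := subsingleton_tensor B' A' D' C' (L ⧸ K)
  have hQ := K364.MilnorPair.subsingleton_of_pair hsq (L ⧸ K) hB' hA'
  exact ⟨⟨t1 ∪ t2, Submodule.Quotient.subsingleton_iff.mp hQ⟩⟩

variable [Algebra D' C] [Algebra B' C] [IsScalarTower B' A C] [IsScalarTower B' D' C]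
    [Algebra.IsPushout B' A D' C]
    [Algebra D C] [IsScalarTower D' D C] [Algebra B C] [IsScalarTower B A C] [IsScalarTower B D C]
    [Algebra C' C] [IsScalarTower D' C' C] [Algebra A' C] [IsScalarTower A' A C]
    [IsScalarTower A' C' C]
    {N M' : Type u} [AddCommGroup N] [Module D N] [Module D' N] [IsScalarTower D' D N]
    [AddCommGroup M'] [Module C' M'] [Module D' M'] [IsScalarTower D' C' M']
    (φ : C ⊗[D] N ≃ₗ[C] C ⊗[C'] M')
    [Module B N] [IsScalarTower B D N] [Module A' M'] [IsScalarTower A' C' M']

include B' D' in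
theorem isPushout_D : Algebra.IsPushout B A D C := by
  have : IsScalarTower B' D C := IsScalarTower.of_algebraMap_eq fun x => by
    rw [IsScalarTower.algebraMap_apply B' D' C, IsScalarTower.algebraMap_apply B' D' D,
      ← IsScalarTower.algebraMap_apply D' D C]
  rw [← Algebra.IsPushout.comp_iff B' B D' (S' := D) (T := A) (T' := C)]
  infer_instance

include B' D' in
theorem isPushout_C' : Algebra.IsPushout A' A C' C := by
  have : IsScalarTower B' C' C := IsScalarTower.of_algebraMap_eq fun x => by
    rw [IsScalarTower.algebraMap_apply B' D' C, IsScalarTower.algebraMap_apply B' D' C',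
      ← IsScalarTower.algebraMap_apply D' C' C]
  rw [← Algebra.IsPushout.comp_iff B' A' D' (S' := C') (T := A) (T' := C)]
  infer_instance

include B' D' in
/-- the glueing isomorphism over the base square -/
noncomputable def phiB : A ⊗[B] N ≃ₗ[A] A ⊗[A'] M' :=
  have := isPushout_D (B' := B') (B := B) (A := A) D' D C
  have := isPushout_C' (B' := B') (A' := A') (A := A) D' C' C
  (Algebra.IsPushout.cancelBaseChange B A D C N).symm ≪≫ₗ (φ.restrictScalars A) ≪≫ₗ
    (Algebra.IsPushout.cancelBaseChange A' A C' C M')

theorem phiB_iff (n : N) (m : M') :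
    phiB (B' := B') (B := B) (A' := A') (A := A) D' D C' C φ (1 ⊗ₜ n) = 1 ⊗ₜ m ↔
      φ (1 ⊗ₜ n) = 1 ⊗ₜ m := by
  have := isPushout_D (B' := B') (B := B) (A := A) D' D C
  have := isPushout_C' (B' := B') (A' := A') (A := A) D' C' C
  rw [phiB, LinearEquiv.trans_apply, LinearEquiv.trans_apply,
    Algebra.IsPushout.cancelBaseChange_symm_tmul, map_one,
    ← Algebra.IsPushout.cancelBaseChange_tmul A' A C' C M' m,
    (Algebra.IsPushout.cancelBaseChange A' A C' C M').injective.eq_iff]
  rfl

variable [Module B' N] [IsScalarTower B' B N] [Module B' M'] [IsScalarTower B' A' M']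
  [IsScalarTower B' D' N] [IsScalarTower B' D' M']

/-- comparison of the two glued modules -/
noncomputable def glueEquiv : ↥(EtMil.glue D' φ) ≃ₗ[B']
      ↥(EtMil.glue B' (phiB (B' := B') (B := B) (A' := A') (A := A) D' D C' C φ)) where
  toFun x := ⟨x.1, (phiB_iff D' D C' C φ _ _).2 x.2⟩
  invFun x := ⟨x.1, (phiB_iff D' D C' C φ _ _).1 x.2⟩
  map_add' _ _ := rfl
  map_smul' _ _ := rfl
  left_inv _ := rfl
  right_inv _ := rfl

include hsq in
theorem flat_glue [Module.Flat B N] [Module.Flat A' M'] : Module.Flat B' ↥(EtMil.glue D' φ) :=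
  have : Module.Flat B' ↥(EtMil.glue B' (phiB (B' := B') (B := B) (A' := A') (A := A) D' D C' C φ)) :=
    Milnor2.flat_glue hsq _
  Module.Flat.of_linearEquiv (glueEquiv (B' := B') (B := B) (A' := A') (A := A) D' D C' C φ)

include hsq in
/-- base change to `D` of the glued module -/
theorem baseChange_fst_bijective :
    Function.Bijective (LinearMap.liftBaseChange D (EtMil.glueFst D' φ)) := by
  have h1 := Milnor.baseChange_fst_bijective hsq
    (phiB (B' := B') (B := B) (A' := A') (A := A) D' D C' C φ)
  let e := glueEquiv (B' := B') (B := B) (A' := A') (A := A) D' D C' C φ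
  let E := (Algebra.IsPushout.cancelBaseChange B' B D' D ↥(EtMil.glue D' φ)) ≪≫ₗ
    (TensorProduct.AlgebraTensorModule.congr (LinearEquiv.refl B B) e)
  have h2 : ∀ x, LinearMap.liftBaseChange D (EtMil.glueFst D' φ) x =
      LinearMap.liftBaseChange B (EtMil.glueFst B'
        (phiB (B' := B') (B := B) (A' := A') (A := A) D' D C' C φ)) (E x) := by
    intro x
    obtain ⟨y, rfl⟩ := E.symm.surjective x
    rw [LinearEquiv.apply_symm_apply]
    induction y using TensorProduct.induction_on with
    | zero => simp
    | add x y hx hy => simp only [map_add, hx, hy]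
    | tmul b m =>
      obtain ⟨m, rfl⟩ := e.surjective m
      have : E.symm (b ⊗ₜ e m) = algebraMap B D b ⊗ₜ m := by
        apply E.injective
        rw [LinearEquiv.apply_symm_apply]
        change _ = (TensorProduct.AlgebraTensorModule.congr (LinearEquiv.refl B B) e)
          (Algebra.IsPushout.cancelBaseChange B' B D' D ↥(EtMil.glue D' φ) (algebraMap B D b ⊗ₜ m))
        rw [← Algebra.IsPushout.cancelBaseChange_symm_tmul B' B D' D _ b m,
          LinearEquiv.apply_symm_apply]
        rfl
      rw [this]
      simp only [LinearMap.liftBaseChange_tmul]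
      exact IsScalarTower.algebraMap_smul D b (EtMil.glueFst D' φ m)
  have h3 : ⇑(LinearMap.liftBaseChange D (EtMil.glueFst D' φ)) =
      ⇑(LinearMap.liftBaseChange B (EtMil.glueFst B'
        (phiB (B' := B') (B := B) (A' := A') (A := A) D' D C' C φ))) ∘ E := funext h2
  rw [h3]
  exact h1.comp E.bijective

include hsq in
/-- base change to `C'` of the glued module -/
theorem baseChange_snd_bijective :
    Function.Bijective (LinearMap.liftBaseChange C' (EtMil.glueSnd D' φ)) := by
  have h1 := Milnor.baseChange_snd_bijective hsq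
    (phiB (B' := B') (B := B) (A' := A') (A := A) D' D C' C φ)
  let e := glueEquiv (B' := B') (B := B) (A' := A') (A := A) D' D C' C φ
  let E := (Algebra.IsPushout.cancelBaseChange B' A' D' C' ↥(EtMil.glue D' φ)) ≪≫ₗ
    (TensorProduct.AlgebraTensorModule.congr (LinearEquiv.refl A' A') e)
  have h2 : ∀ x, LinearMap.liftBaseChange C' (EtMil.glueSnd D' φ) x =
      LinearMap.liftBaseChange A' (EtMil.glueSnd B'
        (phiB (B' := B') (B := B) (A' := A') (A := A) D' D C' C φ)) (E x) := by
    intro x
    obtain ⟨y, rfl⟩ := E.symm.surjective x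
    rw [LinearEquiv.apply_symm_apply]
    induction y using TensorProduct.induction_on with
    | zero => simp
    | add x y hx hy => simp only [map_add, hx, hy]
    | tmul b m =>
      obtain ⟨m, rfl⟩ := e.surjective m
      have : E.symm (b ⊗ₜ e m) = algebraMap A' C' b ⊗ₜ m := by
        apply E.injective
        rw [LinearEquiv.apply_symm_apply]
        change _ = (TensorProduct.AlgebraTensorModule.congr (LinearEquiv.refl A' A') e)
          (Algebra.IsPushout.cancelBaseChange B' A' D' C' ↥(EtMil.glue D' φ)
            (algebraMap A' C' b ⊗ₜ m))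
        rw [← Algebra.IsPushout.cancelBaseChange_symm_tmul B' A' D' C' _ b m,
          LinearEquiv.apply_symm_apply]
        rfl
      rw [this]
      simp only [LinearMap.liftBaseChange_tmul]
      exact IsScalarTower.algebraMap_smul C' b (EtMil.glueSnd D' φ m)
  have h3 : ⇑(LinearMap.liftBaseChange C' (EtMil.glueSnd D' φ)) =
      ⇑(LinearMap.liftBaseChange A' (EtMil.glueSnd B'
        (phiB (B' := B') (B := B) (A' := A') (A := A) D' D C' C φ))) ∘ E := funext h2
  rw [h3]
  exact h1.comp E.bijective

include hsq in
theorem finitePresentation_glue [Module.FinitePresentation D N] [Module.Flat B N]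
    [Module.FinitePresentation C' M'] [Module.Flat A' M'] :
    Module.FinitePresentation D' ↥(EtMil.glue D' φ) := by
  have hflat : Module.Flat B' ↥(EtMil.glue D' φ) :=
    flat_glue (B' := B') (B := B) (A' := A') (A := A) hsq D' D C' C φ
  have hfin : Module.Finite D' ↥(EtMil.glue D' φ) := by
    refine RelMilnor.finite_glue D' D C' C ?_ ?_ φ
    · exact RelMilnor.surjective_C (B' := B') (B := B) (A' := A') (A := A) hsq D' C' C
    · exact RelMilnor.exists_of_compat (B' := B') (B := B) (A' := A') (A := A) hsq D' D C' C
  obtain ⟨n, f, hf⟩ := Module.Finite.exists_fin' D' ↥(EtMil.glue D' φ)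
  have hD : Module.FinitePresentation D (D ⊗[D'] ↥(EtMil.glue D' φ)) :=
    Module.FinitePresentation.of_equiv (LinearEquiv.ofBijective _
      (baseChange_fst_bijective (B' := B') (B := B) (A' := A') (A := A) hsq D' D C' C φ)).symm
  have hC : Module.FinitePresentation C' (C' ⊗[D'] ↥(EtMil.glue D' φ)) :=
    Module.FinitePresentation.of_equiv (LinearEquiv.ofBijective _
      (baseChange_snd_bijective (B' := B') (B := B) (A' := A') (A := A) hsq D' D C' C φ)).symm
  let _ : Module B' (Fin n → D') := inferInstance
  have h1 : Module.Finite D (D ⊗[D'] LinearMap.ker f) := finite_tensor_ker B' B D' D f hf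
  have h2 : Module.Finite C' (C' ⊗[D'] LinearMap.ker f) := finite_tensor_ker B' A' D' C' f hf
  have h3 : Module.Finite D' (LinearMap.ker f) :=
    finite_of_rel_pair (B' := B') (B := B) (A' := A') (A := A) hsq D' D C' (LinearMap.ker f)
  exact Module.finitePresentation_of_surjective f hf (Module.Finite.iff_fg.1 h3)

end Relative

end K361.RelMilnor2
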