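import Groth.Agent.EtAlg.K361.FlatMul
import Groth.Agent.Models.TorVan

/-!
# Tor dimension ascends along weakly étale maps
-/

set_option autoImplicit false
universe u

namespace K361.TorDimWE

open TensorProduct Groth.Agent.Models.TorVan

theorem hasTorDimLE_of_restrict (A B : Type u) [CommRing A] [CommRing B] [Algebra A B]
    [Algebra.WeaklyEtale A B] (n : ℕ) :
    ∀ (N : Type u) [AddCommGroup N] [Module A N] [Module B N] [IsScalarTower A B N],
      DRing.HasTorDimLE A n N → DRing.HasTorDimLE B n N := by
  induction n with
  | zero =>
    intro N _ _ _ _ h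
    rw [hasTorDimLE_zero_iff] at h ⊢
    exact FlatMul.flat_of_flat (A := A) (Algebra.WeaklyEtale.flat_lmul' A B)
  | succ n ih =>
    intro N _ _ _ _ h
    let q : (N →₀ B) →ₗ[B] N := Finsupp.linearCombination B id
    let i : LinearMap.ker q →ₗ[B] (N →₀ B) := (LinearMap.ker q).subtype
    have hq : Function.Surjective q := Finsupp.linearCombination_id_surjective B N
    have hiq : Function.Exact i q := LinearMap.exact_subtype_ker_map q
    have hi : Function.Injective i := Subtype.val_injective
    have hflat : Module.Flat A (N →₀ B) := Module.Flat.trans A B (N →₀ B)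
    have h0 := @hasTorDimLE_succ_iff B _ (LinearMap.ker q) (N →₀ B) N _ _ _ _ _ _ i q hi hiq hq _ n
    rw [h0]
    apply ih
    exact (hasTorDimLE_succ_iff (A := A) (i.restrictScalars A)
      (q.restrictScalars A) hi hiq hq).1 h

end K361.TorDimWE
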